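import Groth.Agent.Lib.BcMapQ6.Ingredients
import Groth.Agent.Lib.NearLA6.Sections

/-!
# Base change for torsion sheaves
-/

set_option autoImplicit false
set_option linter.style.haveILetI false
set_option linter.unusedSectionVars false
set_option backward.isDefEq.respectTransparency false
set_option backward.isDefEq.respectTransparency.types false

universe u

open CategoryTheory CategoryTheory.Limits AlgebraicGeometry Opposite HomologicalComplex

namespace Groth.Agent.BcMapQ6

open Groth.Agent.EtStalk Groth.Agent.EtAcyc24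

section Colim

variable {X S : Scheme.{u}}

/-- Higher direct images along quasi-compact quasi-separated morphisms commute with sequential colimits. -/
theorem preservesColimitsOfShape_Rpush (f : X ⟶ S) [QuasiCompact f] [QuasiSeparated f] (q : ℕ) :
    PreservesColimitsOfShape (ULift.{u + 1} ℕ) (EtCoh.Rpush f q) := by
  haveI : IsFiltered (ULift.{u + 1} ℕ) := isFiltered_of_directed_le_nonempty _
  refine ⟨fun {K} => ?_⟩
  haveI : IsIso (colimit.post K (EtCoh.Rpush f q)) := NearLA6.isIso_of_points _ fun z => by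
    let R := Hens.Hsh (S.presheaf.stalk z)
    haveI : IsSepClosed (IsLocalRing.ResidueField R) :=
      (Hensel.IsStrictHenselization.isSepClosure (R := S.presheaf.stalk z) (S := R)).sep_closed
    obtain ⟨T⟩ := StrictLim24.nonempty_strictSys S z R
    obtain ⟨e⟩ := T.nonempty_stalk_Rpush_iso f q
    let ξ := closedPt R ≫ Hens2.specOf S z R
    refine ⟨_, inferInstance, inferInstance, ξ, LocAcycBC6.closedPt_specOf z, ?_⟩
    haveI : QuasiCompact (pullback.snd f (Hens2.specOf S z R)) := MorphismProperty.pullback_snd _ _ ‹_›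
    haveI : QuasiSeparated (pullback.snd f (Hens2.specOf S z R)) := MorphismProperty.pullback_snd _ _ ‹_›
    haveI : CompactSpace ↥(pullback f (Hens2.specOf S z R)) :=
      QuasiCompact.compactSpace_of_compactSpace (pullback.snd f (Hens2.specOf S z R))
    haveI : QuasiSeparatedSpace ↥(pullback f (Hens2.specOf S z R)) :=
      quasiSeparatedSpace_of_quasiSeparated (pullback.snd f (Hens2.specOf S z R))
    haveI := EtColim.preservesColimitsOfShape_HF (pullback f (Hens2.specOf S z R)) q (ULift.{u + 1} ℕ)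
    haveI : (EtCoh.pull (pullback.fst f (Hens2.specOf S z R))).IsLeftAdjoint :=
      (EtCoh.pullPushAdj _).isLeftAdjoint
    haveI : PreservesColimitsOfShape (ULift.{u + 1} ℕ) (EtCoh.Rpush f q ⋙ EtCoh.stalk ξ) :=
      preservesColimitsOfShape_of_natIso e.symm
    haveI : PreservesColimitsOfShape (ULift.{u + 1} ℕ) (EtCoh.stalk ξ) := inferInstance
    have h := colimit.post_post K (EtCoh.Rpush f q) (EtCoh.stalk ξ)
    haveI : IsIso (colimit.post (K ⋙ EtCoh.Rpush f q) (EtCoh.stalk ξ) ≫
        (EtCoh.stalk ξ).map (colimit.post K (EtCoh.Rpush f q))) := by rw [h]; infer_instance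
    exact (ConcreteCategory.isIso_iff_bijective _).1
      (IsIso.of_isIso_comp_left (colimit.post (K ⋙ EtCoh.Rpush f q) (EtCoh.stalk ξ)) _)
  exact preservesColimit_of_isIso_post (EtCoh.Rpush f q) K

end Colim

variable {X S X' S' : Scheme.{u}} (f : X ⟶ S) (g : S' ⟶ S) (f' : X' ⟶ S') (g' : X' ⟶ X)
  (w : g' ≫ f = f' ≫ g) [PreservesFiniteLimits (EtCoh.pull g')]

local notation "cx" F => Functor.mapHomologicalComplex F (ComplexShape.up ℕ)

set_option maxHeartbeats 1600000 in
/-- The base change morphism in each degree is natural. -/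
theorem bcQ_natural {M N : EtCoh.Ab X} (φ : M ⟶ N) (q : ℕ) :
    (EtCoh.pull g).map ((EtCoh.Rpush f q).map φ) ≫ EtBC.bcQ f g f' g' w q N =
      EtBC.bcQ f g f' g' w q M ≫ (EtCoh.Rpush f' q).map ((EtCoh.pull g').map φ) := by
  haveI : (EtCoh.pull g').Additive := (EtCoh.pullPushAdj g').left_adjoint_additive
  haveI : (EtCoh.pull g).Additive := (EtCoh.pullPushAdj g).left_adjoint_additive
  let I := injectiveResolution M
  let J := injectiveResolution N
  let I' := injectiveResolution ((EtCoh.pull g').obj M)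
  let J' := injectiveResolution ((EtCoh.pull g').obj N)
  let a := InjectiveResolution.desc φ J I
  let b := InjectiveResolution.desc ((EtCoh.pull g').map φ) J' I'
  have ha : I.ι.f 0 ≫ a.f 0 = φ ≫ J.ι.f 0 := InjectiveResolution.desc_commutes_zero _ _ _
  have hb : I'.ι.f 0 ≫ b.f 0 = (EtCoh.pull g').map φ ≫ J'.ι.f 0 := InjectiveResolution.desc_commutes_zero _ _ _
  let K := (cx (EtCoh.pull g')).obj I.cocomplex
  let ιK : (CochainComplex.single₀ _).obj ((EtCoh.pull g').obj M) ⟶ K := RDer.mapAug (EtCoh.pull g') I.ι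
  haveI : _root_.QuasiIso ιK := by
    show _root_.QuasiIso ((singleMapHomologicalComplex (EtCoh.pull g') (ComplexShape.up ℕ) 0).inv.app M ≫
      (cx (EtCoh.pull g')).map I.ι)
    infer_instance
  have hι : ιK.f 0 = (EtCoh.pull g').map (I.ι.f 0) := EtBCQ24.mapAug_f_zero _ _
  obtain ⟨hom⟩ := EtBCQ24.nonempty_homotopy K ιK J'.cocomplex ((cx (EtCoh.pull g')).map a ≫ EtBCQ24.χK g' N)
    (EtBCQ24.χK g' M ≫ b) (by
      rw [hι, comp_f, comp_f, reassoc_of% (EtBCQ24.ι_χK g' M), hb, Functor.mapHomologicalComplex_map_f]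
      rw [← Functor.map_comp_assoc, ha, Functor.map_comp_assoc, EtBCQ24.ι_χK g' N])
  have hψ : homologyMap ((cx (EtCoh.pull g)).map ((cx (EtCoh.push f)).map a)) q ≫
      homologyMap (EtBCQ24.ψ f g f' g' w _ _ (EtBCQ24.χK g' N)) q =
      homologyMap (EtBCQ24.ψ f g f' g' w _ _ (EtBCQ24.χK g' M)) q ≫ homologyMap ((cx (EtCoh.push f')).map b) q := by
    have hn := (NatTrans.mapHomologicalComplex (EtBCQ24.bc0N f g f' g' w) (ComplexShape.up ℕ)).naturality a
    rw [← homologyMap_comp, ← homologyMap_comp, EtBCQ24.ψ, EtBCQ24.ψ, Category.assoc, ← Functor.map_comp]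
    erw [reassoc_of% hn]
    refine (homologyMap_comp _ _ _).trans (Eq.trans (congrArg (fun z => _ ≫ z) ?_) (homologyMap_comp _ _ _).symm)
    exact (congrArg (fun z => homologyMap z q) ((cx (EtCoh.push f')).map_comp _ _).symm).trans
      ((Functor.mapHomotopy (EtCoh.push f') hom).homologyMap_eq q)
  have hIa := InjectiveResolution.isoRightDerivedObj_hom_naturality φ I J a ha (EtCoh.push f) q
  have hJb := InjectiveResolution.isoRightDerivedObj_inv_naturality ((EtCoh.pull g').map φ) I' J' b hb (EtCoh.push f') q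
  rw [EtBCQ24.bcQ_eq_chosen, EtBCQ24.bcQ_eq_chosen, ← Functor.map_comp_assoc]
  erw [hIa]
  simp only [Category.assoc]
  erw [hJb, Functor.map_comp, Category.assoc]
  refine congrArg (fun z => (EtCoh.pull g).map (I.isoRightDerivedObj (EtCoh.push f) q).hom ≫ z) ?_
  erw [reassoc_of% (ShortComplex.mapHomologyIso_inv_naturality
    ((HomologicalComplex.shortComplexFunctor _ (ComplexShape.up ℕ) q).map ((cx (EtCoh.push f)).map a)) (EtCoh.pull g))]
  refine congrArg (fun z => ((((cx (EtCoh.push f)).obj I.cocomplex).sc q).mapHomologyIso (EtCoh.pull g)).inv ≫ z) ?_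
  exact (Category.assoc _ _ _).symm.trans ((congrArg (fun z => z ≫ (J'.isoRightDerivedObj (EtCoh.push f') q).inv) hψ).trans
    (Category.assoc _ _ _))

variable [QuasiCompact f] [QuasiSeparated f] [QuasiCompact f'] [QuasiSeparated f']

/-- A property of the base change morphism which passes to sequential colimits holds for torsion sheaves
once it holds for sheaves killed by integers. -/
theorem bcQ_colim (P : MorphismProperty (EtCoh.Ab S')) [P.IsStableUnderColimitsOfShape (ULift.{u + 1} ℕ)]
    (L : Set ℕ) (q : ℕ) (F : EtCoh.Ab X) (hF : EtAcyc.IsLTorsion L F)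
    (H : ∀ (a : ℕ) (G : EtCoh.Ab X), EtAcyc.PrimesIn L a → EtCoh.KilledBy a G → P (EtBC.bcQ f g f' g' w q G)) :
    P (EtBC.bcQ f g f' g' w q F) := by
  have hT : EtCoh.IsTorsion F := fun U s z =>
    let ⟨V, r, m, hv, hm, h0⟩ := hF U s z
    ⟨V, r, hv, isOfFinAddOrder_iff_nsmul_eq_zero.2 ⟨m, hm.1, h0⟩⟩
  haveI : IsFiltered (ULift.{u + 1} ℕ) := isFiltered_of_directed_le_nonempty _
  let hcc : IsColimit (EtColim.torCocone F) :=
    @IsColimit.ofPointIso _ _ _ _ _ _ _ (colimit.isColimit (EtColim.torDiag F)) (EtColim.isIso_desc F hT)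
  haveI := preservesColimitsOfShape_Rpush f q
  haveI := preservesColimitsOfShape_Rpush f' q
  haveI : (EtCoh.pull g).IsLeftAdjoint := (EtCoh.pullPushAdj g).isLeftAdjoint
  haveI : (EtCoh.pull g').IsLeftAdjoint := (EtCoh.pullPushAdj g').isLeftAdjoint
  let D₁ := EtColim.torDiag F ⋙ EtCoh.Rpush f q ⋙ EtCoh.pull g
  let D₂ := EtColim.torDiag F ⋙ EtCoh.pull g' ⋙ EtCoh.Rpush f' q
  let τ : D₁ ⟶ D₂ :=
    { app := fun k => EtBC.bcQ f g f' g' w q ((EtColim.torDiag F).obj k)
      naturality := fun k k' c => bcQ_natural f g f' g' w ((EtColim.torDiag F).map c) q }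
  refine MorphismProperty.colimitsOfShape_le (J := ULift.{u + 1} ℕ) _
    (MorphismProperty.colimitsOfShape.mk' (W := P) D₁ D₂ _ _ (isColimitOfPreserves (EtCoh.Rpush f q ⋙ EtCoh.pull g) hcc)
      (isColimitOfPreserves (EtCoh.pull g' ⋙ EtCoh.Rpush f' q) hcc) τ (fun k => ?_) (EtBC.bcQ f g f' g' w q F)
      fun k => bcQ_natural f g f' g' w ((EtColim.torCocone F).ι.app k) q)
  obtain ⟨a, ha, h0⟩ := exists_killed L hF k
  exact H a _ ha (EtBCQ24.killedBy_of_nsmul h0)

end Groth.Agent.BcMapQ6
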