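import Groth.Agent.Lib.BcMapQ6.Main

/-!
# Existence of derived direct images of étale sheaves and of their adjunctions
-/

set_option autoImplicit false
set_option linter.style.haveILetI false
set_option backward.isDefEq.respectTransparency false
set_option backward.isDefEq.respectTransparency.types false

universe u

open CategoryTheory CategoryTheory.Limits AlgebraicGeometry Opposite

namespace Groth.Agent.BcMapQ6

attribute [local instance] HasDerivedCategory.standard

open Groth.Agent.EtStalk Groth.Agent.EtAcyc24

/-- Derived direct images of étale sheaves exist. -/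
theorem hasRpushEt (A : Scheme.{u}) {B : Scheme.{u}} (f : A ⟶ B) : DCoh.HasRpushEt A f :=
  KInjLib.hasRightDerivedFunctor KInjLib.enoughKInj_of_grothendieck _

/-- Inverse image is left adjoint to derived direct image. -/
theorem nonempty_adj {A B : Scheme.{u}} (f : A ⟶ B) [PreservesFiniteLimits (EtCoh.pull f)] [DCoh.HasRpushEt A f] :
    Nonempty (EtBC.pullD f ⊣ DCoh.RpushEt A f) :=
  ⟨KInjLib.derivedAdj (W := HomotopyCategory.quasiIso (EtCoh.Ab A) (ComplexShape.up ℤ))
    (HomotopyCategory.quasiIso (EtCoh.Ab B) (ComplexShape.up ℤ))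
    (KInjLib.adjHomotopy (EtCoh.pullPushAdj f) (ComplexShape.up ℤ)) (EtBC.pullD f)
    (EtCoh.pull f).mapDerivedCategoryFactorsh (dUnit f)
    (KInjLib.derivingClass_Qh KInjLib.enoughKInj_of_grothendieck)
    (fun I hI => KInjLib.isIso_unit_of_kInjObj KInjLib.enoughKInj_of_grothendieck (dUnit f) I hI)⟩

end Groth.Agent.BcMapQ6
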