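import Groth.Agent.Lib.LocAcycBC6.QFPoint
import Groth.Agent.Lib.PointLim24.Split
import Mathlib.RingTheory.Unramified.Finite
import Mathlib.AlgebraicGeometry.ResidueField

/-!
# Algebraic geometric points of strict localisations are limits of quasi-finite schemes
-/

set_option autoImplicit false
set_option linter.style.haveILetI false
set_option linter.unusedSectionVars false
set_option backward.isDefEq.respectTransparency.types false

universe u

open CategoryTheory CategoryTheory.Limits AlgebraicGeometry Opposite IsLocalRing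
open scoped TensorProduct

namespace Groth.Agent.BcMapQ6

/-- Images of a strict henselization in a field are integral over any field containing the image of the local ring. -/
theorem isIntegral_image_strictHenselization {O R : Type u} [CommRing O] [IsLocalRing O] [CommRing R]
    [IsLocalRing R] [Algebra O R] [IsLocalHom (algebraMap O R)] [Hensel.IsStrictHenselization O R]
    {K Ω : Type u} [Field K] [Field Ω] [Algebra K Ω] (ρ : O →+* K) (κ : R →+* Ω)
    (h : (algebraMap K Ω).comp ρ = κ.comp (algebraMap O R)) (r : R) : IsIntegral K (κ r) := by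
  obtain ⟨E, _, _, _, ψ, e, rfl⟩ := PointLim24.exists_etale_range O R r
  letI : Algebra O K := ρ.toAlgebra
  letI : Algebra O Ω := (κ.comp (algebraMap O R)).toAlgebra
  haveI : IsScalarTower O K Ω := IsScalarTower.of_algebraMap_eq' h.symm
  let χ : E →ₐ[O] Ω := AlgHom.mk (κ.comp ψ.toRingHom) fun o => by
    show κ (ψ (algebraMap O E o)) = _
    rw [ψ.commutes]
    rfl
  let τ : K ⊗[O] E →ₐ[K] Ω := Algebra.TensorProduct.lift (Algebra.ofId K Ω) χ fun _ _ => .all _ _
  haveI : Module.Finite K (K ⊗[O] E) := Algebra.FormallyUnramified.finite_of_free K _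
  have hτ : τ (1 ⊗ₜ[O] e) = κ (ψ e) := by
    rw [Algebra.TensorProduct.lift_tmul, map_one, one_mul]
    rfl
  exact hτ ▸ (Algebra.IsIntegral.isIntegral (R := K) (1 ⊗ₜ[O] e : K ⊗[O] E)).map τ

/-- Residue fields of an affine scheme consist of fractions. -/
theorem exists_frac (R : Type u) [CommRing R] (t : Spec (CommRingCat.of R))
    (z : (Spec (CommRingCat.of R)).residueField t) :
    ∃ a b : R, (StructureSheaf.toStalk R t ≫ (Spec (CommRingCat.of R)).residue t) b ≠ 0 ∧
      z * (StructureSheaf.toStalk R t ≫ (Spec (CommRingCat.of R)).residue t) b =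
        (StructureSheaf.toStalk R t ≫ (Spec (CommRingCat.of R)).residue t) a := by
  letI : Algebra R ((Spec (CommRingCat.of R)).presheaf.stalk t) := StructureSheaf.stalkAlgebra R t
  have hloc : IsLocalization.AtPrime ((Spec (CommRingCat.of R)).presheaf.stalk t) t.asIdeal :=
    StructureSheaf.IsLocalization.to_stalk R t
  have hres : Function.Surjective ((Spec (CommRingCat.of R)).residue t) := IsLocalRing.residue_surjective
  obtain ⟨y, rfl⟩ := hres z
  obtain ⟨⟨a, b⟩, hab⟩ := IsLocalization.surj t.asIdeal.primeCompl y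
  exact ⟨a, b.1, ((IsLocalization.map_units _ b).map ((Spec (CommRingCat.of R)).residue t).hom).ne_zero,
    (map_mul _ _ _).symm.trans (congrArg ((Spec (CommRingCat.of R)).residue t) hab)⟩

/-- An algebraic geometric point of a strict localisation gives a limit of quasi-finite schemes over an affine base. -/
theorem nonempty_qfSys_strict (B : Scheme.{u}) [IsAffine B] (p : B) (R : Type u) [CommRing R] [IsLocalRing R]
    [Algebra (B.presheaf.stalk p) R] [IsLocalHom (algebraMap (B.presheaf.stalk p) R)]
    [Hensel.IsStrictHenselization (B.presheaf.stalk p) R] (t : Spec (CommRingCat.of R)) (Ω : Type u) [Field Ω]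
    [Algebra ((Spec (CommRingCat.of R)).residueField t) Ω]
    [Algebra.IsAlgebraic ((Spec (CommRingCat.of R)).residueField t) Ω] :
    Nonempty (LocAcycBC6.QFSys (EtAcyc.geomPt (Spec (CommRingCat.of R)) t Ω ≫ Hens2.specOf B p R)) := by
  let κ : R →+* Ω := (algebraMap _ Ω).comp
    (StructureSheaf.toStalk R t ≫ (Spec (CommRingCat.of R)).residue t).hom
  have hκ : Spec.map (CommRingCat.ofHom κ) = EtAcyc.geomPt (Spec (CommRingCat.of R)) t Ω := by
    show Spec.map ((StructureSheaf.toStalk R t ≫ (Spec (CommRingCat.of R)).residue t) ≫ CommRingCat.ofHom _) = _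
    rw [Spec.map_comp, Spec.map_comp, EtAcyc.geomPt, Scheme.fromSpecResidueField, Spec.fromSpecStalk_eq']
    rfl
  let σ := EtAcyc.geomPt (Spec (CommRingCat.of R)) t Ω ≫ Hens2.specOf B p R
  let s : B := σ.base (closedPoint Ω)
  let φ : B.residueField s ⟶ CommRingCat.of Ω := B.descResidueField (Scheme.stalkClosedPointTo σ)
  have hφ : Spec.map φ ≫ B.fromSpecResidueField s = σ :=
    Scheme.descResidueField_stalkClosedPointTo_fromSpecResidueField Ω B σ
  have hs : s ⤳ p := by
    have : s ∈ Set.range (B.fromSpecStalk p).base := ⟨_, rfl⟩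
    rwa [Scheme.range_fromSpecStalk] at this
  let ρ : B.presheaf.stalk p ⟶ B.residueField s := B.presheaf.stalkSpecializes hs ≫ B.residue s
  letI : Algebra (B.residueField s) Ω := φ.hom.toAlgebra
  have hρ : ρ ≫ φ = CommRingCat.ofHom (κ.comp (algebraMap (B.presheaf.stalk p) R)) := by
    refine Spec.map_injective ?_
    rw [← cancel_mono (B.fromSpecStalk p)]
    rw [Spec.map_comp, Spec.map_comp, Category.assoc, Category.assoc, Scheme.SpecMap_stalkSpecializes_fromSpecStalk]
    refine hφ.trans ?_
    rw [CommRingCat.ofHom_comp, Spec.map_comp, Category.assoc, hκ]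
  have hint : ∀ r : R, IsIntegral (B.residueField s) (κ r) :=
    isIntegral_image_strictHenselization ρ.hom κ (congrArg CommRingCat.Hom.hom hρ)
  let M := algebraicClosure (B.residueField s) Ω
  have hM : ∀ z, algebraMap ((Spec (CommRingCat.of R)).residueField t) Ω z ∈ M := by
    intro z
    obtain ⟨a, b, hb, hab⟩ := exists_frac R t z
    have he : algebraMap _ Ω z = κ a / κ b := by
      have hb' : κ b ≠ 0 := (map_ne_zero (algebraMap ((Spec (CommRingCat.of R)).residueField t) Ω)).2 hb
      exact (eq_div_iff hb').2 ((map_mul (algebraMap _ Ω) z _).symm.trans (congrArg (algebraMap _ Ω) hab))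
    rw [he]
    exact div_mem (mem_algebraicClosure_iff.2 (hint a).isAlgebraic) (mem_algebraicClosure_iff.2 (hint b).isAlgebraic)
  letI : Algebra ((Spec (CommRingCat.of R)).residueField t) M :=
    ((algebraMap ((Spec (CommRingCat.of R)).residueField t) Ω).codRestrict M.toSubfield.toSubring hM).toAlgebra
  haveI : IsScalarTower ((Spec (CommRingCat.of R)).residueField t) M Ω := IsScalarTower.of_algebraMap_eq fun _ => rfl
  haveI : Algebra.IsAlgebraic M Ω := Algebra.IsAlgebraic.tower_top (K := (Spec (CommRingCat.of R)).residueField t) _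
  haveI : Algebra.IsAlgebraic (B.residueField s) Ω := Algebra.IsAlgebraic.trans (B.residueField s) M Ω
  obtain ⟨S⟩ := LocAcycBC6.nonempty_qfSys B s Ω
  exact ⟨{ S with hπ := fun i => (S.hπ i).trans hφ }⟩

end Groth.Agent.BcMapQ6
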