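import Groth.Agent.Lib.BcMapQ6.Main
import Groth.Agent.Lib.EtBCQ24.Compose
import Groth.Agent.Lib.EtBCQ24.Local

/-!
# The derived base change morphism of an arbitrary object
-/

set_option autoImplicit false
set_option linter.style.haveILetI false
set_option linter.unusedSectionVars false
set_option backward.isDefEq.respectTransparency false
set_option backward.isDefEq.respectTransparency.types false

universe u

open CategoryTheory CategoryTheory.Limits AlgebraicGeometry Opposite HomologicalComplex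

namespace Groth.Agent.BcMapQ6

attribute [local instance] HasDerivedCategory.standard

open Groth.Agent.EtStalk Groth.Agent.EtAcyc24

local notation "cx" F => Functor.mapHomologicalComplex F (ComplexShape.up ℤ)

/-- Additive functors preserve quasi-isomorphisms between K-injective complexes. -/
theorem quasiIso_map_of_isKInjective {A B : Type*} [Category A] [Abelian A] [Category B] [Abelian B]
    [HasDerivedCategory A] [HasDerivedCategory B]
    (G : A ⥤ B) [G.Additive] {J J' : CochainComplex A ℤ} [J.IsKInjective] [J'.IsKInjective] (k : J ⟶ J')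
    [_root_.QuasiIso k] : _root_.QuasiIso ((cx G).map k) := by
  haveI : IsIso (DerivedCategory.Q.map k) := (DerivedCategory.isIso_Q_map_iff_quasiIso _ k).2 inferInstance
  obtain ⟨k', hk'⟩ := KInjLib.exists_map_eq (inv (DerivedCategory.Q.map k))
  obtain ⟨h₁⟩ := (KInjLib.map_eq_iff (k ≫ k') (𝟙 J)).1 (by simp [hk'])
  obtain ⟨h₂⟩ := (KInjLib.map_eq_iff (k' ≫ k) (𝟙 J')).1 (by simp [hk'])
  let e : HomotopyEquiv J J' := ⟨k, k', h₁, h₂⟩
  exact (G.mapHomotopyEquiv e).quasiIso_hom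

theorem isIso_Q_map_of_homotopy {A : Type*} [Category A] [Abelian A] [HasDerivedCategory A]
    {K L : CochainComplex A ℤ} {φ ψ : K ⟶ L} (H : Homotopy φ ψ) [_root_.QuasiIso φ] : _root_.QuasiIso ψ :=
  ⟨fun n => by
    rw [quasiIsoAt_iff_isIso_homologyMap, ← H.homologyMap_eq n, ← quasiIsoAt_iff_isIso_homologyMap]
    infer_instance⟩

variable {X Y Xb Yb : Scheme.{u}} (h : Y ⟶ X) (p : Xb ⟶ X) (hb : Yb ⟶ Xb) (pY : Yb ⟶ Y) (w : hb ≫ p = pY ≫ h)

/-- The map of complexes computing the base change morphism at a complex. -/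
noncomputable def ΦG (I : CochainComplex (EtCoh.Ab Xb) ℤ) {J : CochainComplex (EtCoh.Ab Yb) ℤ}
    (χ : (cx (EtCoh.pull hb)).obj I ⟶ J) :
    (cx (EtCoh.pull h)).obj ((pcx p).obj I) ⟶ (pcx pY).obj J :=
  ΨCx h p hb pY w I ≫ (pcx pY).map χ

/-- Independence of the chosen resolution. -/
theorem quasiIso_ΦG_indep (I : CochainComplex (EtCoh.Ab Xb) ℤ) {J J' : CochainComplex (EtCoh.Ab Yb) ℤ}
    [J.IsKInjective] [J'.IsKInjective] (χ : (cx (EtCoh.pull hb)).obj I ⟶ J) [_root_.QuasiIso χ]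
    (χ' : (cx (EtCoh.pull hb)).obj I ⟶ J') [_root_.QuasiIso χ'] (hq : _root_.QuasiIso (ΦG h p hb pY w I χ)) :
    _root_.QuasiIso (ΦG h p hb pY w I χ') := by
  haveI : IsIso (DerivedCategory.Q.map χ) := (DerivedCategory.isIso_Q_map_iff_quasiIso _ χ).2 inferInstance
  haveI : IsIso (DerivedCategory.Q.map χ') := (DerivedCategory.isIso_Q_map_iff_quasiIso _ χ').2 inferInstance
  obtain ⟨k, hk⟩ := KInjLib.exists_map_eq (inv (DerivedCategory.Q.map χ) ≫ DerivedCategory.Q.map χ')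
  haveI : IsIso (DerivedCategory.Q.map k) := hk ▸ inferInstance
  haveI : _root_.QuasiIso k := (DerivedCategory.isIso_Q_map_iff_quasiIso _ k).1 inferInstance
  obtain ⟨H⟩ := (KInjLib.map_eq_iff (χ ≫ k) χ').1 (by rw [Functor.map_comp, hk, IsIso.hom_inv_id_assoc])
  haveI := quasiIso_map_of_isKInjective (EtCoh.push pY) k
  haveI := hq
  haveI : _root_.QuasiIso (ΦG h p hb pY w I χ ≫ (pcx pY).map k) := inferInstance
  refine @isIso_Q_map_of_homotopy _ _ _ _ _ _ (ΦG h p hb pY w I χ ≫ (pcx pY).map k) _ ?_ this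
  exact (Homotopy.ofEq (by rw [ΦG, Category.assoc, ← Functor.map_comp])).trans
    (((EtCoh.push pY).mapHomotopy H).compLeft (ΨCx h p hb pY w I))

variable [PreservesFiniteLimits (EtCoh.pull h)] [PreservesFiniteLimits (EtCoh.pull hb)]
  [DCoh.HasRpushEt Xb p] [DCoh.HasRpushEt Yb pY] [DCoh.HasRpushEt Y h] (adj : EtBC.pullD h ⊣ DCoh.RpushEt Y h)
  (I : CochainComplex (EtCoh.Ab Xb) ℤ) [I.IsKInjective] {J : CochainComplex (EtCoh.Ab Yb) ℤ} [J.IsKInjective]
  (χ : (cx (EtCoh.pull hb)).obj I ⟶ J) [_root_.QuasiIso χ] {O : DCoh.DEt Xb} (ε : DerivedCategory.Q.obj I ≅ O)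

include ε in
/-- The derived base change morphism is the image of a map of complexes. -/
theorem nonempty_arrow_bcMap_cx :
    Nonempty (Arrow.mk (EtBC.bcMap p h pY hb w adj O) ≅ Arrow.mk (DerivedCategory.Q.map (ΦG h p hb pY w I χ))) := by
  let K := (HomotopyCategory.quotient (EtCoh.Ab Xb) (ComplexShape.up ℤ)).obj I
  let e : DerivedCategory.Qh.obj K ≅ O := qI I ≪≫ ε
  have hn : (EtBC.pullD h).map ((DCoh.RpushEt Xb p).map e.hom) ≫ EtBC.bcMap p h pY hb w adj O =
      EtBC.bcMap p h pY hb w adj (DerivedCategory.Qh.obj K) ≫ (DCoh.RpushEt Yb pY).map ((EtBC.pullD hb).map e.hom) := by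
    simp only [EtBC.bcMap]
    rw [← Adjunction.homEquiv_naturality_left_symm, ← Adjunction.homEquiv_naturality_right_symm]
    exact congrArg _ ((EtBC.bcAdj p h pY hb w).naturality e.hom)
  let v : DerivedCategory.Qh.obj (((EtCoh.push p).mapHomotopyCategory (ComplexShape.up ℤ)).obj K) ⟶
      (DCoh.RpushEt Xb p).obj (DerivedCategory.Qh.obj K) := (dUnit p).app K
  haveI : IsIso v := KInjLib.isIso_app_of_isKInjective KInjLib.enoughKInj_of_grothendieck (dUnit p) I
  have hfac : v ≫ (EtBC.bcAdj p h pY hb w).app (DerivedCategory.Qh.obj K) = (EtBC.bcUnit p h pY hb w).app K :=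
    Functor.rightDerived_fac_app _ _ _ _ _ _
  let t := tCx (EtCoh.pullPushAdj h) (dUnit h) adj ((pcx p).obj I)
  haveI : IsIso t := isIso_tCx (EtCoh.pullPushAdj h) (dUnit h) KInjLib.enoughKInj_of_grothendieck adj _
  have key : (EtBC.pullD h).map v ≫ EtBC.bcMap p h pY hb w adj (DerivedCategory.Qh.obj K) =
      (EtBC.pullD h).map (qI ((pcx p).obj I)).hom ≫ t ≫ DerivedCategory.Q.map (ΨCx h p hb pY w I) ≫
        tailCx hb pY I := by
    simp only [EtBC.bcMap, t, tCx]
    rw [← Adjunction.homEquiv_naturality_left_symm, hfac, ← Adjunction.homEquiv_naturality_right_symm,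
      ← Adjunction.homEquiv_naturality_left_symm]
    exact congrArg _ (bcUnit_cx h p hb pY w I)
  let C₁ := ((EtCoh.pull hb).mapHomologicalComplex (ComplexShape.up ℤ)).obj I
  haveI : IsIso (DerivedCategory.Q.map χ) := (DerivedCategory.isIso_Q_map_iff_quasiIso _ _).2 inferInstance
  haveI : IsIso ((SitePAdj.αQ (dUnit pY)).app J) := SitePAdj.isIso_αQ (dUnit pY) KInjLib.enoughKInj_of_grothendieck J
  let qχ : DerivedCategory.Q.obj C₁ ≅ DerivedCategory.Q.obj J := asIso (DerivedCategory.Q.map χ)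
  have htail : tailCx hb pY I = DerivedCategory.Q.map ((pcx pY).map χ) ≫
      (SitePAdj.αQ (dUnit pY)).app J ≫ (DCoh.RpushEt Yb pY).map (qχ.inv ≫ (qI C₁).inv ≫
        (EtCoh.pull hb).mapDerivedCategoryFactorsh.inv.app K) := by
    have hnat := (SitePAdj.αQ (dUnit pY)).naturality χ
    erw [reassoc_of% hnat]
    rw [tailCx]
    erw [dUnit_eq pY C₁]
    simp only [Category.assoc, Functor.map_comp]
    erw [← Functor.map_comp_assoc (DCoh.RpushEt Yb pY) (DerivedCategory.Q.map χ) qχ.inv]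
    rw [show DerivedCategory.Q.map χ ≫ qχ.inv = 𝟙 _ from qχ.hom_inv_id, CategoryTheory.Functor.map_id,
      Category.id_comp]
    erw [Iso.inv_hom_id_assoc]
  let eT : DerivedCategory.Q.obj ((pcx pY).obj J) ≅ (DCoh.RpushEt Yb pY).obj ((EtBC.pullD hb).obj O) :=
    asIso ((SitePAdj.αQ (dUnit pY)).app J) ≪≫ (DCoh.RpushEt Yb pY).mapIso (qχ.symm ≪≫ (qI C₁).symm ≪≫
      ((EtCoh.pull hb).mapDerivedCategoryFactorsh.app K).symm ≪≫ (EtBC.pullD hb).mapIso e)
  let eS : DerivedCategory.Q.obj (((EtCoh.pull h).mapHomologicalComplex (ComplexShape.up ℤ)).obj ((pcx p).obj I)) ≅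
      (EtBC.pullD h).obj ((DCoh.RpushEt Xb p).obj O) :=
    (asIso t).symm ≪≫ (EtBC.pullD h).mapIso ((qI ((pcx p).obj I)).symm ≪≫ asIso v ≪≫ (DCoh.RpushEt Xb p).mapIso e)
  refine ⟨(Arrow.isoMk eS eT ?_).symm⟩
  show eS.hom ≫ EtBC.bcMap p h pY hb w adj O = DerivedCategory.Q.map (ΦG h p hb pY w I χ) ≫ eT.hom
  simp only [eS, eT, Iso.trans_hom, Iso.symm_hom, Functor.mapIso_hom, asIso_inv, asIso_hom, Functor.map_comp,
    Category.assoc, IsIso.inv_comp_eq]
  rw [hn, reassoc_of% key, htail, ΦG]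
  simp only [Functor.map_comp, Category.assoc]
  rw [← Functor.map_comp_assoc (EtBC.pullD h) (qI ((pcx p).obj I)).inv (qI ((pcx p).obj I)).hom, Iso.inv_hom_id,
    CategoryTheory.Functor.map_id, Category.id_comp]
  rfl

include ε in
/-- The derived base change morphism is invertible exactly when the map of complexes is a quasi-isomorphism. -/
theorem isIso_bcMap_iff_cx :
    IsIso (EtBC.bcMap p h pY hb w adj O) ↔ _root_.QuasiIso (ΦG h p hb pY w I χ) := by
  obtain ⟨e⟩ := nonempty_arrow_bcMap_cx h p hb pY w adj I χ ε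
  exact ((MorphismProperty.isomorphisms _).arrow_mk_iso_iff e).trans (DerivedCategory.isIso_Q_map_iff_quasiIso _ _)

section Paste

variable {X S Y T W Z : Scheme.{u}} (f : X ⟶ S) (g : T ⟶ S) (h : Y ⟶ X) (e : Y ⟶ T)
  (w : e ≫ g = h ≫ f) (i : W ⟶ X) (j : Z ⟶ W) (k : Z ⟶ Y) (w' : k ≫ h = j ≫ i)
  (w'' : (k ≫ e) ≫ g = j ≫ (i ≫ f))
  (I : CochainComplex (EtCoh.Ab T) ℤ) {J : CochainComplex (EtCoh.Ab Y) ℤ} {K : CochainComplex (EtCoh.Ab Z) ℤ}
  (χ : (cx (EtCoh.pull e)).obj I ⟶ J) (χ' : (cx (EtCoh.pull k)).obj J ⟶ K)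

/-- The composite of two comparisons. -/
noncomputable def χcomp : (cx (EtCoh.pull (k ≫ e))).obj I ⟶ K :=
  (NatTrans.mapHomologicalComplex (EtCore.pullComp k e).hom (ComplexShape.up ℤ)).app I ≫
    (cx (EtCoh.pull k)).map χ ≫ χ'

/-- The maps of complexes of a tower of two squares. -/
theorem ΦG_comp :
    ΦG (i ≫ f) g (k ≫ e) j w'' I (χcomp e k I χ χ') =
      (NatTrans.mapHomologicalComplex (EtCore.pullComp i f).hom (ComplexShape.up ℤ)).app ((pcx g).obj I) ≫
        (cx (EtCoh.pull i)).map (ΦG f g e h w I χ) ≫ ΦG i h k j w' J χ' := by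
  refine HomologicalComplex.hom_ext _ _ fun n => ?_
  show EtCoh.baseChange0 g (i ≫ f) j (k ≫ e) w'' (I.X n) ≫
      (EtCoh.push j).map ((EtCore.pullComp k e).hom.app (I.X n) ≫ (EtCoh.pull k).map (χ.f n) ≫ χ'.f n) =
    (EtCore.pullComp i f).hom.app ((EtCoh.push g).obj (I.X n)) ≫
      (EtCoh.pull i).map (EtCoh.baseChange0 g f h e w (I.X n) ≫ (EtCoh.push h).map (χ.f n)) ≫
      EtCoh.baseChange0 h i j k w' (J.X n) ≫ (EtCoh.push j).map (χ'.f n)
  have hc : (EtCoh.push j).map ((EtCore.pullComp k e).inv.app (I.X n)) ≫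
      (EtCoh.push j).map ((EtCore.pullComp k e).hom.app (I.X n)) = 𝟙 _ := by
    rw [← Functor.map_comp, Iso.inv_hom_id_app, CategoryTheory.Functor.map_id]
  have hn : (EtCoh.pull i).map ((EtCoh.push h).map (χ.f n)) ≫ EtCoh.baseChange0 h i j k w' (J.X n) =
      EtCoh.baseChange0 h i j k w' ((EtCoh.pull e).obj (I.X n)) ≫ (EtCoh.push j).map ((EtCoh.pull k).map (χ.f n)) :=
    (EtBCQ24.bc0N h i j k w').naturality (χ.f n)
  rw [EtBCQ24.bc0_comp f g h e w i j k w' w'']
  simp only [Functor.map_comp, Category.assoc]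
  erw [reassoc_of% hc, reassoc_of% hn]

theorem isIso_pullComp_app (C : CochainComplex (EtCoh.Ab S) ℤ) :
    IsIso ((NatTrans.mapHomologicalComplex (EtCore.pullComp i f).hom (ComplexShape.up ℤ)).app C) :=
  inferInstanceAs (IsIso ((NatIso.mapHomologicalComplex (EtCore.pullComp i f) (ComplexShape.up ℤ)).hom.app C))

theorem quasiIso_χcomp [PreservesFiniteLimits (EtCoh.pull k)] [_root_.QuasiIso χ] [_root_.QuasiIso χ'] :
    _root_.QuasiIso (χcomp e k I χ χ') := by
  haveI := isIso_pullComp_app e k I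
  rw [χcomp]
  infer_instance

include w' in
theorem quasiIso_ΦG_comp [PreservesFiniteLimits (EtCoh.pull i)] (h1 : _root_.QuasiIso (ΦG f g e h w I χ))
    (h2 : _root_.QuasiIso (ΦG i h k j w' J χ')) : _root_.QuasiIso (ΦG (i ≫ f) g (k ≫ e) j w'' I (χcomp e k I χ χ')) := by
  haveI := isIso_pullComp_app f i ((pcx g).obj I)
  rw [ΦG_comp f g h e w i j k w' w'' I χ χ']
  infer_instance

include w' in
theorem quasiIso_pull_ΦG [PreservesFiniteLimits (EtCoh.pull i)]
    (h'' : _root_.QuasiIso (ΦG (i ≫ f) g (k ≫ e) j w'' I (χcomp e k I χ χ')))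
    (h2 : _root_.QuasiIso (ΦG i h k j w' J χ')) : _root_.QuasiIso ((cx (EtCoh.pull i)).map (ΦG f g e h w I χ)) := by
  haveI := isIso_pullComp_app f i ((pcx g).obj I)
  rw [ΦG_comp f g h e w i j k w' w'' I χ χ'] at h''
  haveI := quasiIso_of_comp_left
    ((NatTrans.mapHomologicalComplex (EtCore.pullComp i f).hom (ComplexShape.up ℤ)).app ((pcx g).obj I))
    ((cx (EtCoh.pull i)).map (ΦG f g e h w I χ) ≫ ΦG i h k j w' J χ')
  exact quasiIso_of_comp_right ((cx (EtCoh.pull i)).map (ΦG f g e h w I χ)) (ΦG i h k j w' J χ')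

/-- Being a quasi-isomorphism is detected on an étale cover. -/
theorem quasiIso_of_covers {C D : CochainComplex (EtCoh.Ab X) ℤ} (φ : C ⟶ D) {ι : Type u} (U : ι → X.Etale)
    (hU : EtCoh.Covers U) (hloc : ∀ a, _root_.QuasiIso ((cx (EtCoh.pull (U a).hom)).map φ)) : _root_.QuasiIso φ := by
  refine ⟨fun n => ?_⟩
  rw [quasiIsoAt_iff_isIso_homologyMap]
  refine EtBCQ24.isIso_of_covers _ U hU fun a => ?_
  haveI := hloc a
  have e := ShortComplex.mapHomologyIso_hom_naturality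
    ((HomologicalComplex.shortComplexFunctor _ (ComplexShape.up ℤ) n).map φ) (EtCoh.pull (U a).hom)
  refine ((MorphismProperty.isomorphisms _).arrow_mk_iso_iff
    (Arrow.isoMk ((C.sc n).mapHomologyIso (EtCoh.pull (U a).hom)) ((D.sc n).mapHomologyIso (EtCoh.pull (U a).hom)) e.symm :
      Arrow.mk (homologyMap ((cx (EtCoh.pull (U a).hom)).map φ) n) ≅
        Arrow.mk ((EtCoh.pull (U a).hom).map (homologyMap φ n)))).1 ?_
  show IsIso (homologyMap ((cx (EtCoh.pull (U a).hom)).map φ) n)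
  exact (quasiIsoAt_iff_isIso_homologyMap _ n).1 ((hloc a).quasiIsoAt n)

end Paste

section Etale

/-- Inverse image along an étale morphism preserves K-injective complexes. -/
theorem isKInjective_pull_etale {U X : Scheme.{u}} (t : U ⟶ X) [AlgebraicGeometry.Etale t]
    (I : CochainComplex (EtCoh.Ab X) ℤ) [I.IsKInjective] :
    CochainComplex.IsKInjective ((cx (EtCoh.pull t)).obj I) := by
  haveI : EtShriek.JCont t := jCont t
  haveI : PreservesColimitsOfSize.{0, 0} (EtShriek.extZero t) := (EtShriek.extZeroAdj t).leftAdjoint_preservesColimits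
  exact KInjLib.isKInjective_of_adj _ _ (shriekPullAdj t) I

/-- The map of complexes of an étale base change. -/
theorem quasiIso_ΦG_etale {S T V T' : Scheme.{u}} (g : T ⟶ S) (v : V ⟶ S) [AlgebraicGeometry.Etale v]
    (g' : T' ⟶ V) (t : T' ⟶ T) (c : IsPullback t g' g v) [AlgebraicGeometry.Etale t]
    (I : CochainComplex (EtCoh.Ab T) ℤ) :
    _root_.QuasiIso (ΦG v g t g' c.w I (𝟙 ((cx (EtCoh.pull t)).obj I))) := by
  haveI : ∀ n, IsIso ((ΦG v g t g' c.w I (𝟙 ((cx (EtCoh.pull t)).obj I))).f n) := fun n => by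
    haveI := EtBCQ24.isIso_baseChange0_etale g v g' t c (I.X n)
    show IsIso (EtCoh.baseChange0 g v g' t c.w (I.X n) ≫ (EtCoh.push g').map (𝟙 _))
    infer_instance
  haveI := HomologicalComplex.Hom.isIso_of_components (ΦG v g t g' c.w I (𝟙 ((cx (EtCoh.pull t)).obj I)))
  infer_instance

theorem exists_quasiIso_ΦG_congr {X S Y T : Scheme.{u}} (g : T ⟶ S) (h : Y ⟶ X) {f f₂ : X ⟶ S} {e e₂ : Y ⟶ T}
    (hf : f = f₂) (he : e = e₂) (w : e ≫ g = h ≫ f) (w₂ : e₂ ≫ g = h ≫ f₂)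
    (I : CochainComplex (EtCoh.Ab T) ℤ) {J : CochainComplex (EtCoh.Ab Y) ℤ}
    (χ : (cx (EtCoh.pull e)).obj I ⟶ J) [_root_.QuasiIso χ] (hq : _root_.QuasiIso (ΦG f g e h w I χ)) :
    ∃ χ₂ : (cx (EtCoh.pull e₂)).obj I ⟶ J, _root_.QuasiIso χ₂ ∧ _root_.QuasiIso (ΦG f₂ g e₂ h w₂ I χ₂) := by
  subst hf he
  exact ⟨χ, inferInstance, hq⟩

end Etale

end Groth.Agent.BcMapQ6
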