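import Groth.Agent.Lib.BcMapQ6.Main

/-!
# The cohomology sheaves of the derived base change morphism of a sheaf
-/

set_option autoImplicit false
set_option linter.style.haveILetI false
set_option linter.unusedSectionVars false
set_option backward.isDefEq.respectTransparency false
set_option backward.isDefEq.respectTransparency.types false

universe u

open CategoryTheory CategoryTheory.Limits AlgebraicGeometry Opposite HomologicalComplex

namespace Groth.Agent.BcMapQ6

attribute [local instance] HasDerivedCategory.standard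

open Groth.Agent.EtStalk Groth.Agent.EtAcyc24

variable {X Y Xb Yb : Scheme.{u}} (h : Y ⟶ X) (p : Xb ⟶ X) (hb : Yb ⟶ Xb) (pY : Yb ⟶ Y) (w : hb ≫ p = pY ≫ h)
  [PreservesFiniteLimits (EtCoh.pull h)] [PreservesFiniteLimits (EtCoh.pull hb)]
  [DCoh.HasRpushEt Xb p] [DCoh.HasRpushEt Yb pY] [DCoh.HasRpushEt Y h] (adj : EtBC.pullD h ⊣ DCoh.RpushEt Y h)
  (F : EtCoh.Ab Xb)

/-- A property invariant under isomorphisms holds for a cohomology sheaf of the derived base change morphism
if and only if it holds for the homology of the map of complexes. -/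
theorem homology_bcMap_iff (P : MorphismProperty (EtCoh.Ab Y)) [P.RespectsIso] (i : ℤ) :
    P ((DerivedCategory.homologyFunctor (EtCoh.Ab Y) i).map (EtBC.bcMap p h pY hb w adj (EtBC.single Xb F))) ↔
      P (homologyMap (extendMap (EtBCQ24.ψ p h pY hb w _ _ (EtBCQ24.χK hb F)) ComplexShape.embeddingUpNat) i) := by
  obtain ⟨e₁⟩ := nonempty_arrow_bcMap h p hb pY w adj F (injectiveResolution F)
    (injectiveResolution ((EtCoh.pull hb).obj F)) (EtBCQ24.χK hb F) (EtBCQ24.ι_χK hb F)
  obtain ⟨e₂⟩ := nonempty_arrow_ΦCx h p hb pY w F (injectiveResolution F)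
    (injectiveResolution ((EtCoh.pull hb).obj F)) (EtBCQ24.χK hb F)
  let H := DerivedCategory.homologyFunctor (EtCoh.Ab Y) i
  let Hc := HomologicalComplex.homologyFunctor (EtCoh.Ab Y) (ComplexShape.up ℤ) i
  refine (P.arrow_mk_iso_iff (H.mapArrow.mapIso e₁)).trans ?_
  refine (P.arrow_mk_iso_iff ?_).trans (P.arrow_mk_iso_iff (Hc.mapArrow.mapIso e₂))
  exact Arrow.isoMk ((DerivedCategory.homologyFunctorFactors (EtCoh.Ab Y) i).app _)
    ((DerivedCategory.homologyFunctorFactors (EtCoh.Ab Y) i).app _)
    ((DerivedCategory.homologyFunctorFactors (EtCoh.Ab Y) i).hom.naturality _).symm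

/-- The derived base change morphism is an isomorphism in degree `q` exactly when the base change morphism is. -/
theorem isIso_homology_bcMap_iff (q : ℕ) :
    IsIso ((DerivedCategory.homologyFunctor (EtCoh.Ab Y) (q : ℤ)).map (EtBC.bcMap p h pY hb w adj (EtBC.single Xb F))) ↔
      IsIso (EtBC.bcQ p h pY hb w q F) := by
  refine (homology_bcMap_iff h p hb pY w adj F (MorphismProperty.isomorphisms _) q).trans ?_
  refine Iff.trans ?_ (EtBCQ24.isIso_bcQ_iff p h pY hb w F _ _ _ (EtBCQ24.ι_χK hb F) q).symm
  exact (MorphismProperty.isomorphisms _).arrow_mk_iso_iff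
    (Arrow.isoMk (HomologicalComplex.extendHomologyIso _ _ (j := q) (by simp))
      (HomologicalComplex.extendHomologyIso _ _ (j := q) (by simp))
      (HomologicalComplex.extendHomologyIso_hom_naturality _ _ _).symm)

/-- The derived base change morphism is monic in degree `q` exactly when the base change morphism is. -/
theorem mono_homology_bcMap_iff (q : ℕ) :
    Mono ((DerivedCategory.homologyFunctor (EtCoh.Ab Y) (q : ℤ)).map (EtBC.bcMap p h pY hb w adj (EtBC.single Xb F))) ↔
      Mono (EtBC.bcQ p h pY hb w q F) := by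
  refine (homology_bcMap_iff h p hb pY w adj F (MorphismProperty.monomorphisms _) q).trans ?_
  refine Iff.trans ?_ (EtBCQ24.mono_bcQ_iff p h pY hb w F _ _ _ (EtBCQ24.ι_χK hb F) q).symm
  exact (MorphismProperty.monomorphisms _).arrow_mk_iso_iff
    (Arrow.isoMk (HomologicalComplex.extendHomologyIso _ _ (j := q) (by simp))
      (HomologicalComplex.extendHomologyIso _ _ (j := q) (by simp))
      (HomologicalComplex.extendHomologyIso_hom_naturality _ _ _).symm)

/-- The derived base change morphism is an isomorphism in negative degrees. -/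
theorem isIso_homology_bcMap_of_neg (i : ℤ) (hi : i < 0) :
    IsIso ((DerivedCategory.homologyFunctor (EtCoh.Ab Y) i).map (EtBC.bcMap p h pY hb w adj (EtBC.single Xb F))) := by
  refine (homology_bcMap_iff h p hb pY w adj F (MorphismProperty.isomorphisms _) i).2 ?_
  exact ⟨0, (HomologicalComplex.extend_exactAt _ _ i fun j hj => by simp at hj; omega).isZero_homology.eq_of_src _ _,
    (HomologicalComplex.extend_exactAt _ _ i fun j hj => by simp at hj; omega).isZero_homology.eq_of_src _ _⟩

end Groth.Agent.BcMapQ6
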