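import Groth.Agent.Lib.BcMapQ6.Degrees
import Groth.Agent.Lib.BcMapQ6.Torsion

/-!
# Base change along open immersions over quasi-finite schemes, from local acyclicity
-/

set_option autoImplicit false
set_option linter.style.haveILetI false
set_option backward.isDefEq.respectTransparency.types false

universe u

open CategoryTheory CategoryTheory.Limits AlgebraicGeometry Opposite

namespace Groth.Agent.BcMapQ6

attribute [local instance] HasDerivedCategory.standard

variable {X Y : Scheme.{u}} {g : X ⟶ Y} {Xb Yb : Scheme.{u}} {p : Yb ⟶ Y} {pY : Xb ⟶ X} {hb : Xb ⟶ Yb}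
  [QuasiCompact p] [QuasiSeparated p] [LocallyQuasiFinite p] [LocallyOfFiniteType p]
  {L : Set ℕ} {n : ℕ}

/-- Base change for torsion sheaves in the degrees up to `n + 1`. -/
theorem bcQ_of_locBC [PreservesFiniteLimits (EtCoh.pull hb)] (hg : LocAcycBC6.LocBC g L n)
    (sq : IsPullback hb pY p g) (F : EtCoh.Ab Yb) (hF : EtAcyc.IsLTorsion L F) :
    (∀ q ≤ n, IsIso (EtBC.bcQ p g pY hb sq.w q F)) ∧ Mono (EtBC.bcQ p g pY hb sq.w (n + 1) F) := by
  haveI : QuasiCompact pY := MorphismProperty.of_isPullback sq ‹QuasiCompact p›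
  haveI : QuasiSeparated pY := MorphismProperty.of_isPullback sq ‹QuasiSeparated p›
  haveI : IsFiltered (ULift.{u + 1} ℕ) := isFiltered_of_directed_le_nonempty _
  exact ⟨fun q hq => bcQ_colim p g pY hb sq.w (MorphismProperty.isomorphisms _) L q F hF
      fun a G ha hG => isIso_bcQ_killed hg sq ha q hq G hG,
    bcQ_colim p g pY hb sq.w (MorphismProperty.monomorphisms _) L (n + 1) F hF
      fun a G ha hG => mono_bcQ_killed hg sq ha G hG⟩

/-- The same for the derived base change morphism. -/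
theorem homology_bcMap_of_locBC [PreservesFiniteLimits (EtCoh.pull g)] [PreservesFiniteLimits (EtCoh.pull hb)]
    [DCoh.HasRpushEt Yb p] [DCoh.HasRpushEt Xb pY] [DCoh.HasRpushEt X g]
    (adj : EtBC.pullD g ⊣ DCoh.RpushEt X g) (hg : LocAcycBC6.LocBC g L n) (sq : IsPullback hb pY p g)
    (F : EtCoh.Ab Yb) (hF : EtAcyc.IsLTorsion L F) :
    (∀ q : ℤ, q ≤ n → IsIso ((DerivedCategory.homologyFunctor (EtCoh.Ab X) q).map
      (EtBC.bcMap p g pY hb sq.w adj (EtBC.single Yb F)))) ∧
    Mono ((DerivedCategory.homologyFunctor (EtCoh.Ab X) ((n : ℤ) + 1)).map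
      (EtBC.bcMap p g pY hb sq.w adj (EtBC.single Yb F))) := by
  obtain ⟨h1, h2⟩ := bcQ_of_locBC hg sq F hF
  refine ⟨fun q hq => ?_, (mono_homology_bcMap_iff g p hb pY sq.w adj F (n + 1)).2 h2⟩
  rcases lt_or_ge q 0 with h | h
  · exact isIso_homology_bcMap_of_neg g p hb pY sq.w adj F q h
  · obtain ⟨m, rfl⟩ := Int.eq_ofNat_of_zero_le h
    exact (isIso_homology_bcMap_iff g p hb pY sq.w adj F m).2 (h1 m (by omega))

end Groth.Agent.BcMapQ6
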