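import Groth.Agent.Lib.BcMapQ6.NormalPoint
import Groth.Agent.Lib.BcMapQ6.Torsion
import Groth.Agent.Lib.BCField24.ConstRed
import Groth.Agent.Lib.LocAcycBC6.Test
import Groth.Agent.Lib.LocAcyc24.Rel
import Groth.Agent.Lib.PointLim24.PointCase
import Groth.Agent.Lib.PointLim24.Leray
import Groth.Agent.Lib.EtAcyc24.PushClasses
import Groth.Agent.Lib.EtLim24.Push
import Groth.Prelude.Def_EtRestW

/-!
# Cohomology of locally constant sheaves and the generic fibre of a locally acyclic morphism
-/

set_option autoImplicit false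
set_option linter.style.haveILetI false
set_option linter.unusedSectionVars false
set_option backward.isDefEq.respectTransparency.types false

universe u

open CategoryTheory CategoryTheory.Limits AlgebraicGeometry Opposite CategoryTheory.Abelian IsLocalRing

namespace Groth.Agent.BcMapQ6

open Groth.Agent.EtStalk Groth.Agent.EtAcyc24

section Coefficients

/-- An additive functor killing the cyclic groups of prime power order `ℓ ^ ν`, `ℓ ∣ d`, kills `ZMod d`. -/
theorem isZero_of_primePow {C : Type*} [Category C] [Abelian C] (P : AddCommGrpCat.{u + 1} ⥤ C) [P.Additive]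
    (d : ℕ) [NeZero d] (h : ∀ ℓ ν : ℕ, ℓ.Prime → 1 ≤ ν → ℓ ∣ d →
      IsZero (P.obj (AddCommGrpCat.of (ULift.{u + 1} (ZMod (ℓ ^ ν)))))) :
    IsZero (P.obj (AddCommGrpCat.of (ULift.{u + 1} (ZMod d)))) := by
  classical
  let A := AddCommGrpCat.of (ULift.{u + 1} (ZMod d))
  haveI : Finite A := inferInstanceAs (Finite (ULift.{u + 1} (ZMod d)))
  obtain ⟨ι, hι, p, hp, e, ⟨φ⟩⟩ := AddCommGroup.equiv_directSum_zmod_of_finite A
  refine BCField24.isZero_of_decomp P (ι := ι) A (fun i => AddCommGrpCat.of (ULift.{u + 1} (ZMod (p i ^ e i))))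
    (fun i => AddCommGrpCat.ofHom (AddEquiv.ulift.symm.toAddMonoidHom.comp
      ((DFinsupp.evalAddMonoidHom i).comp φ.toAddMonoidHom)))
    (fun i => AddCommGrpCat.ofHom ((φ.symm.toAddMonoidHom.comp
      (DirectSum.of (fun j => ZMod (p j ^ e j)) i)).comp AddEquiv.ulift.toAddMonoidHom)) ?_ fun i => ?_
  · refine AddCommGrpCat.ext fun a => ?_
    refine (congrFun (congrArg DFunLike.coe
      (map_sum (AddMonoidHom.mk' (fun f : A ⟶ A => f.hom) fun _ _ => rfl) _ (Finset.univ : Finset ι))) a).trans ?_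
    rw [AddMonoidHom.finsetSum_apply]
    show (∑ i, φ.symm (DirectSum.of (fun j => ZMod (p j ^ e j)) i ((φ a) i))) = a
    rw [← map_sum, DirectSum.sum_univ_of, φ.symm_apply_apply]
  · rcases Nat.eq_zero_or_pos (e i) with h0 | h0
    · haveI : Subsingleton (ZMod (p i ^ e i)) := by rw [h0, pow_zero]; infer_instance
      exact P.map_isZero (AddCommGrpCat.isZero_of_subsingleton _)
    refine h _ _ (hp i) h0 ((dvd_pow_self _ h0.ne').trans ?_)
    have hd : d • φ.symm (DirectSum.of (fun j => ZMod (p j ^ e j)) i 1) = 0 := by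
      apply ULift.ext
      show d • (φ.symm (DirectSum.of (fun j => ZMod (p j ^ e j)) i 1)).down = 0
      rw [nsmul_eq_mul, ZMod.natCast_self, zero_mul]
    have hord : addOrderOf (φ.symm (DirectSum.of (fun j => ZMod (p j ^ e j)) i 1)) = p i ^ e i := by
      refine (addOrderOf_injective φ.symm.toAddMonoidHom φ.symm.injective _).trans ?_
      rw [addOrderOf_injective (DirectSum.of (fun j => ZMod (p j ^ e j)) i) (DirectSum.of_injective i),
        ZMod.addOrderOf_one]
    exact hord ▸ addOrderOf_dvd_of_nsmul_eq_zero hd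

variable {L : Set ℕ} {n : ℕ} {Ω : Type u} [Field Ω] [IsSepClosed Ω] {P : Scheme.{u}}
  (e : P ⟶ Spec (CommRingCat.of Ω)) [QuasiCompact e] [QuasiSeparated e]

/-- An acyclic scheme over a separably closed field has no higher direct images of inverse images of torsion sheaves. -/
theorem isZero_Rpush_pull_torsion (hP : EtAcyc.IsAcyclicSchemeN L n P) (G : EtCoh.Ab (Spec (CommRingCat.of Ω)))
    (hG : EtAcyc.IsLTorsion L G) (q : ℕ) (hq₁ : 1 ≤ q) (hq : q ≤ n) :
    IsZero ((EtCoh.Rpush e q).obj ((EtCoh.pull e).obj G)) := by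
  have hd : ∀ a : ℕ, EtAcyc.PrimesIn L a → ∀ G' : EtCoh.Ab (Spec (CommRingCat.of Ω)), EtCoh.KilledBy a G' →
      IsZero ((EtCoh.Rpush e q).obj ((EtCoh.pull e).obj G')) := by
    intro a ha G' hG'
    refine BCField24.isZero_Rpush_pull_of_const e e q a ha.1 (fun d hd => ?_) G' hG'
    haveI : NeZero d := ⟨(Nat.pos_of_dvd_of_pos hd ha.1).ne'⟩
    haveI : (LocAcyc24.cs P).IsLeftAdjoint :=
      (constantSheafAdj P.smallEtaleTopology AddCommGrpCat.{u + 1} (EtCore.topIsTerminal P)).isLeftAdjoint
    haveI : (EtCoh.push e).Additive := (EtCoh.pullPushAdj e).right_adjoint_additive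
    refine isZero_of_primePow (LocAcyc24.cs P ⋙ EtCoh.Rpush e q) d fun ℓ ν hℓ _ hℓd => ?_
    exact (PointLim24.isZero_Rpush_iff (PointLim24.isSplit_self Ω) e _ q).2
      (LocAcycBC6.subsingleton_H_const_pow ℓ P hℓ.ne_zero q
        (hP.2.2 ℓ hℓ (ha.2 ℓ hℓ (hℓd.trans hd)) q hq₁ hq) ν)
  have hT : EtCoh.IsTorsion G := fun U s z =>
    let ⟨V, r, m, hv, hm, h0⟩ := hG U s z
    ⟨V, r, hv, isOfFinAddOrder_iff_nsmul_eq_zero.2 ⟨m, hm.1, h0⟩⟩
  haveI : IsFiltered (ULift.{u + 1} ℕ) := isFiltered_of_directed_le_nonempty _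
  let hcc : IsColimit (EtColim.torCocone G) :=
    @IsColimit.ofPointIso _ _ _ _ _ _ _ (colimit.isColimit (EtColim.torDiag G)) (EtColim.isIso_desc G hT)
  haveI := preservesColimitsOfShape_Rpush e q
  haveI : (EtCoh.pull e).IsLeftAdjoint := (EtCoh.pullPushAdj e).isLeftAdjoint
  rw [IsZero.iff_id_eq_zero]
  refine (isColimitOfPreserves (EtCoh.pull e ⋙ EtCoh.Rpush e q) hcc).hom_ext fun k => IsZero.eq_of_src ?_ _ _
  obtain ⟨a, ha, h0⟩ := exists_killed L hG k
  exact hd a ha _ (EtBCQ24.killedBy_of_nsmul h0)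

/-- An acyclic scheme over a separably closed field has no higher cohomology of inverse images of torsion sheaves. -/
theorem subsingleton_H_pull_torsion (hP : EtAcyc.IsAcyclicSchemeN L n P) (G : EtCoh.Ab (Spec (CommRingCat.of Ω)))
    (hG : EtAcyc.IsLTorsion L G) (q : ℕ) (hq₁ : 1 ≤ q) (hq : q ≤ n) :
    Subsingleton (EtCoh.H P ((EtCoh.pull e).obj G) q) := by
  have h := HofPush_bounded e q ((EtCoh.pull e).obj G)
    fun p hp hpq => isZero_Rpush_pull_torsion e hP G hG p hp (hpq.trans hq)
  haveI := EtPic3.subsingleton_H_sepClosed Ω ((EtCoh.push e).obj ((EtCoh.pull e).obj G)) hq₁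
  exact h.1.2.subsingleton

end Coefficients

section Point

/-- The morphism to a mono after a cartesian square. -/
theorem isPullback_comp_mono {C : Type*} [Category C] {P A B S S' : C} {a : P ⟶ A} {b : P ⟶ B} {f : A ⟶ S}
    {g : B ⟶ S} (h : IsPullback a b f g) (m : S ⟶ S') [Mono m] : IsPullback a b (f ≫ m) (g ≫ m) := by
  have w : a ≫ f ≫ m = b ≫ g ≫ m := by rw [h.w_assoc]
  exact ⟨⟨w⟩, ⟨PullbackCone.IsLimit.mk _
    (fun s => h.lift s.fst s.snd ((cancel_mono m).1 (by rw [Category.assoc, Category.assoc]; exact s.condition)))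
    (fun s => h.lift_fst _ _ _) (fun s => h.lift_snd _ _ _)
    (fun s l h1 h2 => h.hom_ext (by rw [h1, h.lift_fst]) (by rw [h2, h.lift_snd]))⟩⟩

variable {Y : Scheme.{u}} [IsIntegral Y]

/-- The residue field of the generic point is the fraction field of every local ring. -/
theorem exists_algebra_generic (y : Y) : ∃ (hy : genericPoint Y ⤳ y),
    @IsFractionRing (Y.presheaf.stalk y) _ (Y.residueField (genericPoint Y)) _
      ((Y.presheaf.stalkSpecializes hy ≫ Y.residue (genericPoint Y)).hom.toAlgebra) := by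
  have hy : genericPoint Y ⤳ y := (genericPoint_spec Y).specializes trivial
  refine ⟨hy, ?_⟩
  letI : Algebra (Y.presheaf.stalk y) (Y.residueField (genericPoint Y)) :=
    (Y.presheaf.stalkSpecializes hy ≫ Y.residue (genericPoint Y)).hom.toAlgebra
  have hb : Function.Bijective (Y.residue (genericPoint Y)).hom :=
    ⟨((Y.residue (genericPoint Y)).hom : Y.functionField →+* Y.residueField (genericPoint Y)).injective, IsLocalRing.residue_surjective⟩
  haveI : IsFractionRing (Y.presheaf.stalk y) Y.functionField := inferInstance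
  exact IsLocalization.isLocalization_of_algEquiv (nonZeroDivisors _)
    (AlgEquiv.ofRingEquiv (f := RingEquiv.ofBijective _ hb) fun _ => rfl : Y.functionField ≃ₐ[Y.presheaf.stalk y] _)

variable [IsSepClosed (Y.residueField (genericPoint Y))]

/-- In a strict localisation of a normal scheme the generic point with separably closed residue field has one preimage. -/
theorem exists_point_square (hY : Pi1.IsNormalScheme Y) (y : Y) (R : Type u) [CommRing R] [IsLocalRing R]
    [Algebra (Y.presheaf.stalk y) R] [IsLocalHom (algebraMap (Y.presheaf.stalk y) R)]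
    [Hensel.IsStrictHenselization (Y.presheaf.stalk y) R] :
    ∃ κ : R →+* Y.residueField (genericPoint Y),
      (∀ z, ∃ a b : R, κ b ≠ 0 ∧ z * κ b = κ a) ∧
      IsPullback (Spec.map (CommRingCat.ofHom κ)) (𝟙 _) (Hens2.specOf Y y R)
        (Y.fromSpecResidueField (genericPoint Y)) := by
  obtain ⟨hy, hfr⟩ := exists_algebra_generic y
  letI : Algebra (Y.presheaf.stalk y) (Y.residueField (genericPoint Y)) :=
    (Y.presheaf.stalkSpecializes hy ≫ Y.residue (genericPoint Y)).hom.toAlgebra
  haveI := hfr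
  haveI := (hY y).1
  haveI := (hY y).2
  obtain ⟨κ, hκ⟩ := exists_isPullback_frac (Y.presheaf.stalk y) R (Y.residueField (genericPoint Y))
  have e : Spec.map (CommRingCat.ofHom (algebraMap (Y.presheaf.stalk y) (Y.residueField (genericPoint Y)))) ≫
      Y.fromSpecStalk y = Y.fromSpecResidueField (genericPoint Y) := by
    show Spec.map (Y.presheaf.stalkSpecializes hy ≫ Y.residue _) ≫ Y.fromSpecStalk y = _
    rw [Spec.map_comp, Category.assoc, Scheme.SpecMap_stalkSpecializes_fromSpecStalk]
    rfl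
  refine ⟨κ, fun z => ?_, e ▸ isPullback_comp_mono hκ (Y.fromSpecStalk y)⟩
  have hκO : ∀ o, κ (algebraMap (Y.presheaf.stalk y) R o) = algebraMap _ _ o := fun o => by
    have h := hκ.w
    rw [Category.id_comp, ← Spec.map_comp] at h
    exact congrArg (fun m : CommRingCat.of (Y.presheaf.stalk y) ⟶ CommRingCat.of (Y.residueField (genericPoint Y)) =>
      m.hom o) (Spec.map_injective h)
  obtain ⟨a, b, hb, rfl⟩ := IsFractionRing.div_surjective (Y.presheaf.stalk y) z
  have hb' : algebraMap (Y.presheaf.stalk y) (Y.residueField (genericPoint Y)) b ≠ 0 :=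
    IsFractionRing.to_map_ne_zero_of_mem_nonZeroDivisors hb
  exact ⟨algebraMap _ R a, algebraMap _ R b, by rw [hκO]; exact hb', by rw [hκO, hκO, div_mul_cancel₀ _ hb']⟩

end Point

section Main

variable {X Y : Scheme.{u}} [IsIntegral Y] [IsSepClosed (Y.residueField (genericPoint Y))]

local notation "g₁" f => pullback.fst f (Scheme.fromSpecResidueField _ (genericPoint _))

/-- The generic fibre of a strict localisation is acyclic. -/
theorem isAcyclicSchemeN_genericFibre (hY : Pi1.IsNormalScheme Y) (f : X ⟶ Y) {L : Set ℕ} (hL : ∃ ℓ ∈ L, ℓ.Prime) {n : ℕ}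
    (hf : EtAcyc.IsLocAcyclicN f L n) (x : X) (RX : Type u) [CommRing RX] [IsLocalRing RX]
    [Algebra (X.presheaf.stalk x) RX] [IsLocalHom (algebraMap (X.presheaf.stalk x) RX)]
    [Hensel.IsStrictHenselization (X.presheaf.stalk x) RX] :
    ∃ e : pullback (g₁ f) (Hens2.specOf X x RX) ⟶ Spec (Y.residueField (genericPoint Y)),
      IsAffineHom e ∧
      EtAcyc.IsAcyclicSchemeN L n (pullback (g₁ f) (Hens2.specOf X x RX)) := by
  let η := genericPoint Y
  let jη := Y.fromSpecResidueField η
  let K := Y.residueField η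
  obtain ⟨RY, _, _, _, _, hRY⟩ := StalkCrit24.exists_strictHenselization_of_local (Y.presheaf.stalk (f.base x))
  haveI := hRY
  haveI : HenselianLocalRing RY := hRY.henselian
  haveI : HenselianLocalRing RX := (‹Hensel.IsStrictHenselization (X.presheaf.stalk x) RX›).henselian
  haveI : IsSepClosed (ResidueField RY) := hRY.isSepClosure.sep_closed
  haveI : IsSepClosed (ResidueField RX) :=
    (Hensel.IsStrictHenselization.isSepClosure (R := X.presheaf.stalk x) (S := RX)).sep_closed
  obtain ⟨ψ, hψl, hψ⟩ := LocAcyc24.exists_lift (X := Y) (x := f.base x) (R := RY) (T := RX)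
    (Hens2.specOf X x RX ≫ f) (by rw [Scheme.Hom.comp_apply, LocAcyc24.specOf_closedPoint])
  letI : Algebra RY RX := ψ.toAlgebra
  haveI : IsLocalHom (algebraMap RY RX) := hψl
  have hc := (LocAcyc24.specOf_compat f ψ).2 hψ
  obtain ⟨κ, hsurj, sqK⟩ := exists_point_square hY (f.base x) RY
  let sψ := Spec.map (CommRingCat.ofHom (algebraMap RY RX))
  let PX := pullback (g₁ f) (Hens2.specOf X x RX)
  let a : PX ⟶ Spec K := pullback.fst _ _ ≫ pullback.snd f jη
  have sq : IsPullback (pullback.snd (g₁ f) (Hens2.specOf X x RX)) a (Hens2.specOf X x RX ≫ f) jη :=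
    (IsPullback.of_hasPullback (g₁ f) (Hens2.specOf X x RX)).flip.paste_vert (IsPullback.of_hasPullback f jη)
  have hw : pullback.snd (g₁ f) (Hens2.specOf X x RX) ≫ sψ = a ≫ Spec.map (CommRingCat.ofHom κ) := by
    let r := sqK.lift (pullback.snd (g₁ f) (Hens2.specOf X x RX) ≫ sψ) a
      ((Category.assoc _ _ _).trans ((congrArg (pullback.snd _ _ ≫ ·) hψ).trans sq.w))
    have h₁ : r ≫ Spec.map (CommRingCat.ofHom κ) = _ := sqK.lift_fst _ _ _
    have h₂ : r ≫ 𝟙 _ = a := sqK.lift_snd _ _ _
    exact h₁.symm.trans (congrArg (fun z => z ≫ Spec.map (CommRingCat.ofHom κ)) ((Category.comp_id r).symm.trans h₂))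
  have sqQ : IsPullback (pullback.snd (g₁ f) (Hens2.specOf X x RX)) a sψ (Spec.map (CommRingCat.ofHom κ)) := by
    refine IsPullback.of_bot ?_ hw (sqK : IsPullback _ _ _ _)
    exact (congrArg₂ (fun u v => IsPullback (pullback.snd (g₁ f) (Hens2.specOf X x RX)) u v jη)
      (Category.comp_id a) hψ).mpr sq
  let τ : Spec (CommRingCat.of K) ⟶ Spec (CommRingCat.of RY) := Spec.map (CommRingCat.ofHom κ)
  let t : Spec (CommRingCat.of RY) := τ.base (closedPoint K)
  let φ := (Spec (CommRingCat.of RY)).descResidueField (Scheme.stalkClosedPointTo τ)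
  have hφ : Spec.map φ ≫ (Spec (CommRingCat.of RY)).fromSpecResidueField t = τ :=
    Scheme.descResidueField_stalkClosedPointTo_fromSpecResidueField K _ τ
  letI : Algebra ((Spec (CommRingCat.of RY)).residueField t) K := φ.hom.toAlgebra
  haveI : Algebra.IsAlgebraic ((Spec (CommRingCat.of RY)).residueField t) K := by
    have hκφ : ∀ r, κ r = φ ((StructureSheaf.toStalk RY t ≫ (Spec (CommRingCat.of RY)).residue t) r) := fun r => by
      have h : CommRingCat.ofHom κ = (StructureSheaf.toStalk RY t ≫ (Spec (CommRingCat.of RY)).residue t) ≫ φ := by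
        refine Spec.map_injective (hφ.symm.trans ?_)
        rw [Spec.map_comp, Spec.map_comp, Scheme.fromSpecResidueField, Spec.fromSpecStalk_eq']
        rfl
      exact congrArg (fun m : CommRingCat.of RY ⟶ CommRingCat.of K => m r) h
    refine ⟨fun z => ?_⟩
    obtain ⟨p, s, hs, hps⟩ := hsurj z
    have hz : z = algebraMap ((Spec (CommRingCat.of RY)).residueField t) K
        ((StructureSheaf.toStalk RY t ≫ (Spec (CommRingCat.of RY)).residue t) p /
          (StructureSheaf.toStalk RY t ≫ (Spec (CommRingCat.of RY)).residue t) s) := by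
      rw [map_div₀]
      refine (eq_div_iff ?_).2 ?_
      · exact fun h => hs ((hκφ s).trans h)
      · exact ((congrArg (z * ·) (hκφ s)).symm.trans (hps.trans (hκφ p)))
    rw [hz]
    exact isAlgebraic_algebraMap _
  have hacyc := LocAcycBC6.geomFibres_of_locAcyclic hL hf x RY RX hc t K
  let sqT : IsPullback (pullback.snd (g₁ f) (Hens2.specOf X x RX)) a sψ
      (EtAcyc.geomPt (Spec (CommRingCat.of RY)) t K) := by
    rw [show EtAcyc.geomPt (Spec (CommRingCat.of RY)) t K = τ from hφ]
    exact sqQ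
  let j : PX ≅ pullback sψ (EtAcyc.geomPt (Spec (CommRingCat.of RY)) t K) := sqT.isoPullback
  refine ⟨a, MorphismProperty.of_isPullback sqQ (inferInstance : IsAffineHom sψ), ?_⟩
  obtain ⟨hne, hconn, hvan⟩ := hacyc
  haveI := hconn
  refine ⟨hne.map j.inv.base,
    Function.Surjective.connectedSpace (Scheme.homeoOfIso j.symm).surjective (Scheme.homeoOfIso j.symm).continuous,
    fun ℓ hℓ hℓL q hq₁ hq => ?_⟩
  obtain ⟨i⟩ := LocAcyc24.nonempty_H_const_addEquiv j.hom (ZMod ℓ) q
  haveI := hvan ℓ hℓ hℓL q hq₁ hq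
  exact i.symm.toEquiv.subsingleton

end Main

end Groth.Agent.BcMapQ6
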