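import Groth.Agent.S6667
import Groth.Agent.Lib.EtBCQ24.Integral
import Groth.Agent.Lib.FibreTop.FiniteFactor
import Mathlib.AlgebraicGeometry.Morphisms.Immersion

/-!
# Base change along quasi-finite morphisms from base change along open immersions
-/

set_option autoImplicit false
set_option linter.style.haveILetI false
set_option linter.unusedSectionVars false
set_option backward.isDefEq.respectTransparency false
set_option backward.isDefEq.respectTransparency.types false

universe u

open CategoryTheory CategoryTheory.Limits AlgebraicGeometry Opposite HomologicalComplex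

namespace Groth.Agent.BcMapQ6

open Groth.Agent.EtStalk Groth.Agent.EtBCQ24

/-- Base change along an integral morphism followed by base change of the target. -/
theorem isIso_bcQ_comp_integral {X S Y T S₂ X₂ : Scheme.{u}} (f : X ⟶ S) (π : S₂ ⟶ S) [IsIntegralHom π]
    (f₂ : X₂ ⟶ S₂) (π' : X₂ ⟶ X) (c₂ : IsPullback f₂ π' π f) (g : T ⟶ S₂) (h : Y ⟶ X₂) (e : Y ⟶ T)
    (w : e ≫ g = h ≫ f₂) (w'' : e ≫ (g ≫ π) = (h ≫ π') ≫ f) (F : EtCoh.Ab T) (q : ℕ)
    (hiso : IsIso (EtBC.bcQ g f₂ h e w q F)) : IsIso (EtBC.bcQ (g ≫ π) f (h ≫ π') e w'' q F) := by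
  haveI : IsIntegralHom π' := MorphismProperty.of_isPullback c₂ ‹_›
  haveI := preservesFiniteColimits_push_integral π'
  let I := injectiveResolution F
  let J := injectiveResolution ((EtCoh.pull e).obj F)
  let χ := χK e F
  rw [isIso_bcQ_iff g f₂ h e w F I J χ (ι_χK e F)] at hiso
  rw [isIso_bcQ_iff (g ≫ π) f (h ≫ π') e w'' F I J χ (ι_χK e F),
    isIso_homologyMap_paste_iff f π π' f₂ c₂.w g h e w w'']
  let K := ((EtCoh.push g).mapHomologicalComplex (ComplexShape.up ℕ)).obj I.cocomplex
  haveI : IsIso ((NatTrans.mapHomologicalComplex (bc0N π f π' f₂ c₂.w) (ComplexShape.up ℕ)).app K) := by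
    haveI : ∀ n, IsIso (((NatTrans.mapHomologicalComplex (bc0N π f π' f₂ c₂.w) (ComplexShape.up ℕ)).app K).f n) :=
      fun n => EtStalk.isIso_baseChange0_integral π f π' f₂ c₂ (K.X n)
    exact HomologicalComplex.Hom.isIso_of_components _
  rw [ψ, homologyMap_comp, isIso_comp_left_iff]
  exact (isIso_bcQ_of_integral_base.isIso_push_homologyMap_iff _ q).1 inferInstance

/-- Base change being invertible does not depend on the choice of the fibre product. -/
theorem isIso_bcQ_of_isPullback {X S Y Y' T : Scheme.{u}} {f : X ⟶ S} {g : T ⟶ S} [QuasiCompact g]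
    [QuasiSeparated g] {h : Y ⟶ X} {e : Y ⟶ T} (c : IsPullback e h g f) {h' : Y' ⟶ X} {e' : Y' ⟶ T}
    (c' : IsPullback e' h' g f) (F : EtCoh.Ab T) (q : ℕ) (H : IsIso (EtBC.bcQ g f h e c.w q F)) :
    IsIso (EtBC.bcQ g f h' e' c'.w q F) :=
  (Groth.Agent.S6667.result f g h' e' c' F q).1 ((Groth.Agent.S6667.result f g h e c F q).2 H)

/-- Base change is invertible for quasi-compact open immersions over all quasi-finite schemes over the target. -/
def OpenBC {X Y : Scheme.{u}} (g : X ⟶ Y) (L : Set ℕ) (n : ℕ) : Prop :=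
  ∀ (Z : Scheme.{u}) (i : Z ⟶ Y) [LocallyQuasiFinite i] [LocallyOfFiniteType i] (T : Scheme.{u}) (jT : T ⟶ Z)
    [IsOpenImmersion jT] [QuasiCompact jT] (F : EtCoh.Ab T), EtAcyc.IsLTorsion L F → ∀ q : ℕ, q ≤ n →
    IsIso (EtBC.bcQ jT (pullback.snd g i) (pullback.fst (pullback.snd g i) jT) (pullback.snd (pullback.snd g i) jT)
      pullback.condition.symm q F)

set_option maxHeartbeats 1000000 in
/-- Base change along affine quasi-finite schemes over an affine open of the target. -/
theorem isIso_bcQ_stage {X Y : Scheme.{u}} {g : X ⟶ Y} {L : Set ℕ} {n : ℕ} (H : OpenBC g L n)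
    {B : Scheme.{u}} [IsAffine B] (j : B ⟶ Y) [IsOpenImmersion j] {T : Scheme.{u}} [IsAffine T] (p : T ⟶ B)
    [LocallyQuasiFinite p] [LocallyOfFiniteType p] {XT : Scheme.{u}} {hX : XT ⟶ pullback g j} {eT : XT ⟶ T}
    (sq : IsPullback eT hX p (pullback.snd g j)) (F : EtCoh.Ab T) (hF : EtAcyc.IsLTorsion L F) (q : ℕ) (hq : q ≤ n) :
    IsIso (EtBC.bcQ p (pullback.snd g j) hX eT sq.w q F) := by
  haveI : IsSeparated p := inferInstance
  haveI : QuasiCompact p := inferInstance
  obtain ⟨Z₀, j₀, π₀, hj₀, hπ₀, -, e₀⟩ := FibreTop.exists_immersion_finite p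
  haveI := hj₀
  haveI := hπ₀
  haveI : QuasiCompact (j₀ ≫ π₀) := by rw [e₀]; infer_instance
  haveI : QuasiCompact j₀ := QuasiCompact.of_comp j₀ π₀
  haveI : QuasiCompact (j₀.toImage ≫ j₀.imageι) := by rw [Scheme.Hom.toImage_imageι]; infer_instance
  let jT := j₀.toImage
  haveI : QuasiCompact jT := QuasiCompact.of_comp jT j₀.imageι
  let π := j₀.imageι ≫ π₀
  haveI : IsFinite π := inferInstance
  have hp : jT ≫ π = p := by rw [Scheme.Hom.toImage_imageι_assoc, e₀]
  subst hp
  let i := π ≫ j
  haveI : LocallyQuasiFinite i := inferInstance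
  haveI : LocallyOfFiniteType i := inferInstance
  let g' := pullback.snd g i
  let π' : pullback g i ⟶ pullback g j := pullback.lift (pullback.fst g i) (g' ≫ π)
    (by rw [Category.assoc]; exact pullback.condition)
  have c₂ : IsPullback g' π' π (pullback.snd g j) :=
    (IsPullback.of_right (by rw [pullback.lift_fst]; exact IsPullback.of_hasPullback g i) (pullback.lift_snd _ _ _)
      (IsPullback.of_hasPullback g j)).flip
  have c₁ : IsPullback (pullback.snd g' jT) (pullback.fst g' jT) jT g' := (IsPullback.of_hasPullback g' jT).flip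
  have c : IsPullback (pullback.snd g' jT) (pullback.fst g' jT ≫ π') (jT ≫ π) (pullback.snd g j) :=
    c₁.paste_vert c₂
  exact isIso_bcQ_of_isPullback c sq F q
    (isIso_bcQ_comp_integral (pullback.snd g j) π g' π' c₂ jT _ _ c₁.w c.w F q (H _ i T jT F hF q hq))

end Groth.Agent.BcMapQ6
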