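import Groth.Agent.S6701
import Groth.Agent.Lib.BcMapQ6.Stage
import Groth.Agent.Lib.BcMapQ6.Torsion
import Groth.Agent.Lib.LocAcycBC6.Fibre
import Groth.Agent.Lib.EtLim24.Base

/-!
# Base change along algebraic geometric points
-/

set_option autoImplicit false
set_option linter.style.haveILetI false
set_option linter.unusedSectionVars false
set_option backward.isDefEq.respectTransparency.types false

universe u

open CategoryTheory CategoryTheory.Limits AlgebraicGeometry Opposite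

namespace Groth.Agent.BcMapQ6

open Groth.Agent.EtStalk Groth.Agent.EtLim24

section Coherence

variable {ι : Type u} [Preorder ι] {Xs : ιᵒᵖ ⥤ Scheme.{u}} {c : Cone Xs}
  {Y : Scheme.{u}} (b : ∀ i : ι, Xs.obj (op i) ⟶ Y) (hb : ∀ ⦃i j : ι⦄ (h : i ≤ j), uM Xs h ≫ b i = b j)
  (b' : c.pt ⟶ Y) (hb' : ∀ i, pr Xs c i ≫ b i = b') (F₀ : EtCoh.Ab Y)

/-- The transition maps of the inverse images of a sheaf. -/
noncomputable def sysφ ⦃i j : ι⦄ (h : i ≤ j) :
    (EtCoh.pull (Xs.map (homOfLE h).op)).obj ((EtCoh.pull (b i)).obj F₀) ⟶ (EtCoh.pull (b j)).obj F₀ :=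
  (pullT (uM Xs h) (b i) (b j) (hb h)).inv.app F₀

theorem sysφ_cocycle ⦃i j k : ι⦄ (hij : i ≤ j) (hjk : j ≤ k) :
    sysφ b hb F₀ (hij.trans hjk) = (EtLim.pullTrans Xs hij hjk).hom.app ((EtCoh.pull (b i)).obj F₀) ≫
      (EtCoh.pull (Xs.map (homOfLE hjk).op)).map (sysφ b hb F₀ hij) ≫ sysφ b hb F₀ hjk := by
  refine ((EtCoh.pullPushAdj (uM Xs (hij.trans hjk))).homEquiv _ _).injective ?_
  refine (bt_cocycle b hb F₀ hij hjk).trans ?_
  exact transpose_comp (uM Xs hjk) (uM Xs hij) (uM Xs (hij.trans hjk)) (uM_comp hij hjk) _ _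

theorem sysψ_compat ⦃i j : ι⦄ (hij : i ≤ j) :
    (pullT (pr Xs c i) (b i) b' (hb' i)).inv.app F₀ =
      (EtLim.pullTransCone Xs c hij).hom.app ((EtCoh.pull (b i)).obj F₀) ≫
        (EtCoh.pull (c.π.app (op j))).map (sysφ b hb F₀ hij) ≫ (pullT (pr Xs c j) (b j) b' (hb' j)).inv.app F₀ := by
  refine ((EtCoh.pullPushAdj (pr Xs c i)).homEquiv _ _).injective ?_
  refine (bt_bη b hb b' hb' F₀ hij).symm.trans ?_
  exact transpose_comp (pr Xs c j) (uM Xs hij) (pr Xs c i) (pr_w hij) _ _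

end Coherence

set_option maxHeartbeats 1000000 in
/-- Base change along a limit with constant base, for the inverse images of a sheaf. -/
theorem isIso_bcQ_constLimit {ι : Type u} [Preorder ι] [Nonempty ι] [IsDirected ι (· ≤ ·)] {X₀ B : Scheme.{u}}
    (g₀ : X₀ ⟶ B) {Ts Ys : ιᵒᵖ ⥤ Scheme.{u}} {cT : Cone Ts} (hcT : IsLimit cT) {cY : Cone Ys} (hcY : IsLimit cY)
    (bT : ∀ a, Ts.obj a ⟶ B) (hbT : ∀ ⦃a c : ιᵒᵖ⦄ (m : a ⟶ c), Ts.map m ≫ bT c = bT a)
    (bY : ∀ a, Ys.obj a ⟶ X₀) (hbY : ∀ ⦃a c : ιᵒᵖ⦄ (m : a ⟶ c), Ys.map m ≫ bY c = bY a)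
    (eT : Ys ⟶ Ts) (sq : ∀ a, IsPullback (eT.app a) (bY a) (bT a) g₀)
    [∀ a, QuasiCompact (bT a)] [∀ a, QuasiSeparated (bT a)]
    (haT : ∀ ⦃a c : ιᵒᵖ⦄ (m : a ⟶ c), IsAffineHom (Ts.map m))
    (haY : ∀ ⦃a c : ιᵒᵖ⦄ (m : a ⟶ c), IsAffineHom (Ys.map m))
    (σ : cT.pt ⟶ B) (hσ : ∀ a, cT.π.app a ≫ bT a = σ) (h : cY.pt ⟶ X₀) (hh : ∀ a, cY.π.app a ≫ bY a = h)
    (e : cY.pt ⟶ cT.pt) (he : ∀ a, e ≫ cT.π.app a = cY.π.app a ≫ eT.app a) (c : IsPullback e h σ g₀)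
    (F₀ : EtCoh.Ab B) (q : ℕ)
    (hstage : ∀ i : ι, IsIso (EtBC.bcQ (bT (op i)) g₀ (bY (op i)) (eT.app (op i)) (sq (op i)).w q
      ((EtCoh.pull (bT (op i))).obj F₀))) :
    IsIso (EtBC.bcQ σ g₀ h e c.w q ((EtCoh.pull σ).obj F₀)) := by
  let gN : Ts ⟶ (Functor.const ιᵒᵖ).obj B :=
    { app := bT, naturality := fun _ _ m => (hbT m).trans (Category.comp_id _).symm }
  let hN : Ys ⟶ (Functor.const ιᵒᵖ).obj X₀ :=
    { app := bY, naturality := fun _ _ m => (hbY m).trans (Category.comp_id _).symm }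
  haveI : ∀ a, QuasiCompact (gN.app a) := fun a => inferInstanceAs (QuasiCompact (bT a))
  haveI : ∀ a, QuasiSeparated (gN.app a) := fun a => inferInstanceAs (QuasiSeparated (bT a))
  haveI : CategoryTheory.IsConnected ι := IsFiltered.isConnected _
  let b : ∀ i : ι, Ts.obj (op i) ⟶ B := fun i => bT (op i)
  have hb : ∀ ⦃i k : ι⦄ (h : i ≤ k), uM Ts h ≫ b i = b k := fun i k h => hbT _
  have hb' : ∀ i : ι, pr Ts cT i ≫ b i = σ := fun i => hσ (op i)
  let G : ι ⥤ EtCoh.Ab cT.pt := (Functor.const ι).obj ((EtCoh.pull σ).obj F₀)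
  have hlim := Groth.Agent.S6701.result ((Functor.const ιᵒᵖ).obj X₀) ((Functor.const ιᵒᵖ).obj B) Ts Ys
    ((Functor.const ιᵒᵖ).map g₀) gN hN eT sq
    (fun a c m => ⟨inferInstanceAs (IsAffineHom (𝟙 X₀)), inferInstanceAs (IsAffineHom (𝟙 B)), haT m, haY m⟩)
    (constCone ιᵒᵖ X₀) (isLimitConstCone ιᵒᵖ X₀) (constCone ιᵒᵖ B) (isLimitConstCone ιᵒᵖ B)
    cT hcT cY hcY g₀ σ h e
    (fun a => (Category.comp_id _).trans (Category.id_comp _).symm)
    (fun a => (Category.comp_id _).trans (hσ a).symm)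
    (fun a => (Category.comp_id _).trans (hh a).symm)
    he c (fun i => (EtCoh.pull (b i)).obj F₀) (sysφ b hb F₀) (sysφ_cocycle b hb F₀) G
    (fun i => (pullT (pr Ts cT i) (b i) σ (hb' i)).symm.app F₀)
    (fun i k h => (Category.comp_id _).trans (sysψ_compat b hb σ hb' F₀ h))
    q hstage
  let e' : colimit G ≅ (EtCoh.pull σ).obj F₀ :=
    (colimit.isColimit G).coconePointUniqueUpToIso (isColimitConstCocone ι _)
  exact ((MorphismProperty.isomorphisms _).arrow_mk_iso_iff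
    (Arrow.isoMk (((EtCoh.Rpush σ q) ⋙ EtCoh.pull g₀).mapIso e')
      (((EtCoh.pull e) ⋙ EtCoh.Rpush h q).mapIso e')
      (bcQ_natural σ g₀ h e c.w e'.hom q))).1 hlim

set_option maxHeartbeats 1000000 in
/-- Base change along a limit of affine quasi-finite schemes over an affine open of the target. -/
theorem isIso_bcQ_qfSys {X Y : Scheme.{u}} {g : X ⟶ Y} {L : Set ℕ} {n : ℕ} (H : OpenBC g L n)
    {B : Scheme.{u}} [IsAffine B] (j : B ⟶ Y) [IsOpenImmersion j] {P : Scheme.{u}} {σ : P ⟶ B}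
    (S : LocAcycBC6.QFSys σ) (F₀ : EtCoh.Ab B) (hF₀ : EtAcyc.IsLTorsion L F₀) (q : ℕ) (hq : q ≤ n) :
    IsIso (EtBC.bcQ σ (pullback.snd g j) (pullback.fst (pullback.snd g j) σ) (pullback.snd (pullback.snd g j) σ)
      pullback.condition.symm q ((EtCoh.pull σ).obj F₀)) := by
  let eT : LocAcycBC6.fibSys (pullback.snd g j) S ⟶ S.T :=
    { app := fun i => pullback.snd _ (S.b i), naturality := fun _ _ m => pullback.lift_snd _ _ _ }
  exact isIso_bcQ_constLimit (pullback.snd g j) (cT := Cone.mk P S.π) S.isLimit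
    (LocAcycBC6.isLimitFibCone (pullback.snd g j) S) S.b S.hb (fun i => pullback.fst _ (S.b i))
    (fun a c m => pullback.lift_fst _ _ _) eT (fun a => (IsPullback.of_hasPullback _ (S.b a)).flip)
    (fun a c m => LocAcycBC6.isAffineHom_map S m) (fun a c m => LocAcycBC6.isAffineHom_fibSys _ S m)
    σ (fun a => S.hπ a) (pullback.fst _ σ) (fun a => pullback.lift_fst _ _ _)
    (pullback.snd _ σ) (fun a => (pullback.lift_snd _ _ _).symm) (IsPullback.of_hasPullback _ σ).flip F₀ q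
    (fun i => isIso_bcQ_stage H j (S.b (op i)) (IsPullback.of_hasPullback _ (S.b (op i))).flip _
      (EtAcyc24.isLTorsion_pull (S.b (op i)) L hF₀) q hq)

end Groth.Agent.BcMapQ6
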