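import Groth.Agent.S6670
import Groth.Agent.Lib.BcMapQ6.Point
import Groth.Agent.Lib.BcMapQ6.AlgPoint
import Groth.Agent.Lib.LocAcycBC6.Test
import Groth.Agent.Lib.PointLim24.ConnSections
import Groth.Agent.Lib.StalkCrit24.Fibres

/-!
# Local acyclicity from base change along open immersions
-/

set_option autoImplicit false
set_option linter.style.haveILetI false
set_option linter.unusedSectionVars false
set_option backward.isDefEq.respectTransparency.types false

universe u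

open CategoryTheory CategoryTheory.Limits AlgebraicGeometry Opposite CategoryTheory.Abelian IsLocalRing

namespace Groth.Agent.BcMapQ6

open Groth.Agent.EtStalk

section NoPrime

variable {L : Set ℕ}

/-- Without primes, the only torsion sheaf is zero. -/
theorem isZero_of_no_prime {X : Scheme.{u}} (hL : ∀ ℓ ∈ L, ¬ ℓ.Prime) {F : EtCoh.Ab X}
    (hF : EtAcyc.IsLTorsion L F) : IsZero F := by
  have h0 : ∀ (U : X.Etale) (s : F.obj.obj (op U)), s = 0 := fun U s => eq_of_agree F fun x => by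
    obtain ⟨V, g, m, hv, hm, he⟩ := hF U s x
    obtain rfl : m = 1 := by
      by_contra hne
      exact hL _ (hm.2 m.minFac (Nat.minFac_prime hne) (Nat.minFac_dvd m)) (Nat.minFac_prime hne)
    rw [one_smul] at he
    exact ⟨V, g, hv, he.trans (map_zero _).symm⟩
  rw [isZero_iff_stalk]
  intro Ω _ _ ξ
  haveI : Subsingleton ((EtCoh.stalk ξ).obj F) := subsingleton_of_forall_eq 0 fun p => by
    obtain ⟨U, φ, s, rfl⟩ := germ_surjective ξ F p
    rw [h0 U s, map_zero]
  exact AddCommGrpCat.isZero_of_subsingleton _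

/-- Without primes every morphism is acyclic. -/
theorem compN_of_no_prime {X Y : Scheme.{u}} (g : X ⟶ Y) (hL : ∀ ℓ ∈ L, ¬ ℓ.Prime) (n : ℕ) :
    EtAcyc.CompN g L n := by
  intro F hF _
  have hz := isZero_of_no_prime hL hF
  haveI : (EtCoh.pull g).Additive := (EtCoh.pullPushAdj g).left_adjoint_additive
  have h1 : ∀ q, Subsingleton (EtCoh.H Y F q) := fun q => AddCommGrpCat.subsingleton_of_isZero
    (haveI : (EtCoh.HF Y q).Additive := by unfold EtCoh.HF; infer_instance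
     Functor.map_isZero (EtCoh.HF Y q) hz)
  have h2 : ∀ q, Subsingleton (EtCoh.H X ((EtCoh.pull g).obj F) q) := fun q => AddCommGrpCat.subsingleton_of_isZero
    (haveI : (EtCoh.HF X q).Additive := by unfold EtCoh.HF; infer_instance
     Functor.map_isZero (EtCoh.HF X q) ((EtCoh.pull g).map_isZero hz))
  exact ⟨fun q _ => ⟨fun a b _ => (h1 q).elim a b, fun b => ⟨0, (h2 q).elim _ b⟩⟩,
    fun a b _ => (h1 (n + 1)).elim a b⟩

end NoPrime

section Fibre

variable {X Y : Scheme.{u}} {g : X ⟶ Y} {L : Set ℕ} {n : ℕ}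

set_option maxHeartbeats 1000000 in
/-- Geometric fibres of strict localisations compare the cohomology of constant sheaves. -/
theorem bijective_Hpull_fibre (H : OpenBC g L n) {B : Scheme.{u}} [IsAffine B] (j : B ⟶ Y) [IsOpenImmersion j]
    (x : ↥(pullback g j)) {RY RX : Type u} [CommRing RY] [CommRing RX] [IsLocalRing RY] [IsLocalRing RX]
    [Algebra (B.presheaf.stalk ((pullback.snd g j).base x)) RY]
    [IsLocalHom (algebraMap (B.presheaf.stalk ((pullback.snd g j).base x)) RY)]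
    [Hensel.IsStrictHenselization (B.presheaf.stalk ((pullback.snd g j).base x)) RY]
    [Algebra ((pullback g j).presheaf.stalk x) RX] [IsLocalHom (algebraMap ((pullback g j).presheaf.stalk x) RX)]
    [Hensel.IsStrictHenselization ((pullback g j).presheaf.stalk x) RX] (ψ : RY →+* RX) [IsLocalHom ψ]
    (hψ : ψ.comp (algebraMap (B.presheaf.stalk ((pullback.snd g j).base x)) RY) =
      (algebraMap ((pullback g j).presheaf.stalk x) RX).comp ((pullback.snd g j).stalkMap x).hom)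
    (t : Spec (CommRingCat.of RY)) (Ω : Type u) [Field Ω] [IsSepClosed Ω]
    [Algebra ((Spec (CommRingCat.of RY)).residueField t) Ω]
    [Algebra.IsAlgebraic ((Spec (CommRingCat.of RY)).residueField t) Ω]
    {ℓ : ℕ} (hℓ : ℓ.Prime) (hℓL : ℓ ∈ L) (q : ℕ) (hq : q ≤ n) :
    Function.Bijective (EtCore.Hpull
      (pullback.snd (Spec.map (CommRingCat.ofHom ψ)) (EtAcyc.geomPt (Spec (CommRingCat.of RY)) t Ω))
      (EtCoh.const (Spec (CommRingCat.of Ω)) (ZMod ℓ)) q) := by
  let g₀ := pullback.snd g j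
  let τ := EtAcyc.geomPt (Spec (CommRingCat.of RY)) t Ω
  let κ : RY →+* Ω := (Spec.preimage τ).hom
  have hκ : Spec.map (CommRingCat.ofHom κ) = τ := by
    rw [CommRingCat.ofHom_hom]
    exact Spec.map_preimage τ
  let σy := Hens2.specOf B (g₀.base x) RY
  let σx := Hens2.specOf (pullback g j) x RX
  let σ := Spec.map (CommRingCat.ofHom κ) ≫ σy
  obtain ⟨S⟩ : Nonempty (LocAcycBC6.QFSys σ) := by
    show Nonempty (LocAcycBC6.QFSys (Spec.map (CommRingCat.ofHom κ) ≫ σy))
    rw [hκ]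
    exact nonempty_qfSys_strict B (g₀.base x) RY t Ω
  let G := (EtCoh.pull σ).obj (EtCoh.const B (ZMod ℓ))
  have hA : EtAcyc.PrimesIn L ℓ := ⟨hℓ.pos, fun p hp hd => ((Nat.prime_dvd_prime_iff_eq hp hℓ).1 hd).symm ▸ hℓL⟩
  have hbc := isIso_bcQ_qfSys H j S _ (EtAcyc24.isLTorsion_of_nsmul L hA (EtAcyc24.nsmul_id_const B ℓ)) q hq
  have hψ' : Spec.map (CommRingCat.ofHom ψ) ≫ σy = σx ≫ g₀ := (LocAcyc24.specOf_compat g₀ ψ).1 hψ
  let m : pullback σ (σx ≫ g₀) ⟶ pullback σ σy := pullback.lift (pullback.fst _ _)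
    (pullback.snd _ _ ≫ Spec.map (CommRingCat.ofHom ψ))
    (pullback.condition.trans ((congrArg (pullback.snd σ (σx ≫ g₀) ≫ ·) hψ'.symm).trans
      (Category.assoc _ _ _).symm))
  have hb : Function.Bijective (EtCore.HpullVia m (pullback.fst σ σy) (pullback.fst σ (σx ≫ g₀))
      (pullback.lift_fst _ _ _) G q) :=
    (Groth.Agent.S6667.result g₀ σ _ _ (IsPullback.of_hasPullback g₀ σ).flip G q).2 hbc x RY RX ψ hψ
      _ _ _ _ (IsPullback.of_hasPullback σ σy) _ _ (IsPullback.of_hasPullback σ (σx ≫ g₀)) m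
      (pullback.lift_fst _ _ _) (pullback.lift_snd _ _ _)
  have sqQ : IsPullback (pullback.snd (Spec.map (CommRingCat.ofHom ψ)) τ)
      (pullback.fst (Spec.map (CommRingCat.ofHom ψ)) τ) (Spec.map (CommRingCat.ofHom κ))
      (Spec.map (CommRingCat.ofHom ψ)) := by
    rw [hκ]
    exact (IsPullback.of_hasPullback _ τ).flip
  have h := (Groth.Agent.S6670.result g₀ x RY RX ψ hψ Ω κ G q _ _ _ _ (IsPullback.of_hasPullback σ σy) _ _
    (IsPullback.of_hasPullback σ (σx ≫ g₀)) m (pullback.lift_fst _ _ _) (pullback.lift_snd _ _ _)).1 hb κ rfl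
    _ _ _ sqQ
  exact (StalkCrit24.bijective_Hpull_iff_of_iso _ (EtCore.pullConst σ (ZMod ℓ)) q).1 h

/-- A scheme over a separably closed field comparing the cohomology of constant sheaves is acyclic. -/
theorem isAcyclicSchemeN_of_bijective (hL : ∃ ℓ ∈ L, ℓ.Prime) {Ω : Type u} [Field Ω] [IsSepClosed Ω]
    {Q : Scheme.{u}} (a : Q ⟶ Spec (CommRingCat.of Ω))
    (h : ∀ ℓ : ℕ, ℓ.Prime → ℓ ∈ L → ∀ q ≤ n,
      Function.Bijective (EtCore.Hpull a (EtCoh.const (Spec (CommRingCat.of Ω)) (ZMod ℓ)) q)) :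
    EtAcyc.IsAcyclicSchemeN L n Q := by
  obtain ⟨ℓ, hℓL, hℓ⟩ := hL
  have key : ∀ ℓ : ℕ, ℓ.Prime → ℓ ∈ L → ∀ q ≤ n,
      Nonempty (EtCoh.H (Spec (CommRingCat.of Ω)) (EtCoh.const (Spec (CommRingCat.of Ω)) (ZMod ℓ)) q ≃+
        EtCoh.H Q (EtCoh.const Q (ZMod ℓ)) q) := fun ℓ hℓ hℓL q hq =>
    ⟨(AddEquiv.ofBijective _ (h ℓ hℓ hℓL q hq)).trans
      ((EtCoh.HF _ q).mapIso (EtCore.pullConst a (ZMod ℓ))).addCommGroupIsoToAddEquiv⟩
  haveI : ConnectedSpace ↥(Spec (CommRingCat.of Ω)) :=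
    inferInstanceAs (ConnectedSpace (PrimeSpectrum Ω))
  obtain ⟨e₀⟩ := LocAcycBC6.nonempty_H0_const_addEquiv (Spec (CommRingCat.of Ω)) (ZMod ℓ)
  obtain ⟨eQ⟩ := key ℓ hℓ hℓL 0 (Nat.zero_le n)
  obtain ⟨hne, hpre⟩ := PointLim24.connected_of_H0' ℓ hℓ.one_lt (Q := Q) ⟨eQ.symm.trans e₀⟩
  refine ⟨hne, @ConnectedSpace.mk _ _ hpre hne, fun ℓ' hℓ' hℓ'L q hq1 hqn => ?_⟩
  haveI := EtPic3.subsingleton_H_sepClosed Ω (EtCoh.const (Spec (CommRingCat.of Ω)) (ZMod ℓ')) hq1
  obtain ⟨e⟩ := key ℓ' hℓ' hℓ'L q hqn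
  exact e.toEquiv.symm.subsingleton

set_option maxHeartbeats 1000000 in
/-- Base change along open immersions over quasi-finite schemes makes the geometric fibres of the maps of strict
localisations acyclic. -/
theorem geomFibres_of_openBC (H : OpenBC g L n) (hL : ∃ ℓ ∈ L, ℓ.Prime) :
    EtAcyc.OnStrictLocalizations g fun _ _ f => EtAcyc.GeomFibresAcyclicN L n f := by
  intro x RY RX _ _ _ _ _ _ _ _ _ _ _ _ hc
  obtain ⟨_, ⟨U, hU, rfl⟩, hxU, -⟩ :=
    Y.isBasis_affineOpens.exists_subset_of_mem_open (Set.mem_univ (g.base x)) isOpen_univ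
  let j : (Scheme.Opens.toScheme U) ⟶ Y := Scheme.Opens.ι U
  haveI : IsAffine (Scheme.Opens.toScheme U) := hU
  let b : pullback g j ⟶ X := pullback.fst g j
  obtain ⟨x₀, rfl⟩ : x ∈ Set.range b.base := by
    rw [IsOpenImmersion.range_pullbackFst, Scheme.Opens.opensRange_ι]
    exact hxU
  let g₀ := pullback.snd g j
  have w : g₀ ≫ j = b ≫ g := pullback.condition.symm
  have hpt : g.base (b.base x₀) = j.base (g₀.base x₀) := by
    rw [← Scheme.Hom.comp_apply, ← w, Scheme.Hom.comp_apply]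
  let eY : Y.presheaf.stalk (g.base (b.base x₀)) ≅ (Scheme.Opens.toScheme U).presheaf.stalk (g₀.base x₀) :=
    Y.presheaf.stalkCongr (.of_eq hpt) ≪≫ asIso (j.stalkMap (g₀.base x₀))
  let eX : X.presheaf.stalk (b.base x₀) ≅ (pullback g j).presheaf.stalk x₀ := asIso (b.stalkMap x₀)
  have key : eY.hom ≫ g₀.stalkMap x₀ = g.stalkMap (b.base x₀) ≫ eX.hom := by
    have e := Scheme.Hom.stalkMap_congr_hom (b ≫ g) (g₀ ≫ j) w.symm x₀
    rw [Scheme.Hom.stalkMap_comp, Scheme.Hom.stalkMap_comp] at e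
    exact (Category.assoc _ _ _).trans e.symm
  letI aY : Algebra ((Scheme.Opens.toScheme U).presheaf.stalk (g₀.base x₀)) RY :=
    ((algebraMap (Y.presheaf.stalk (g.base (b.base x₀))) RY).comp eY.inv.hom).toAlgebra
  letI aX : Algebra ((pullback g j).presheaf.stalk x₀) RX :=
    ((algebraMap (X.presheaf.stalk (b.base x₀)) RX).comp eX.inv.hom).toAlgebra
  haveI : IsLocalHom (algebraMap ((Scheme.Opens.toScheme U).presheaf.stalk (g₀.base x₀)) RY) :=
    @RingHom.isLocalHom_comp _ _ _ _ _ _ _ _ ‹_› (isLocalHom_of_isIso eY.inv)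
  haveI : IsLocalHom (algebraMap ((pullback g j).presheaf.stalk x₀) RX) :=
    @RingHom.isLocalHom_comp _ _ _ _ _ _ _ _ ‹_› (isLocalHom_of_isIso eX.inv)
  haveI : Hensel.IsStrictHenselization ((Scheme.Opens.toScheme U).presheaf.stalk (g₀.base x₀)) RY :=
    LocAcyc24.isStrictHenselization_of_ringEquiv eY.symm.commRingCatIsoToRingEquiv fun _ => rfl
  haveI : Hensel.IsStrictHenselization ((pullback g j).presheaf.stalk x₀) RX :=
    LocAcyc24.isStrictHenselization_of_ringEquiv eX.symm.commRingCatIsoToRingEquiv fun _ => rfl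
  have hψ : (algebraMap RY RX).comp (algebraMap ((Scheme.Opens.toScheme U).presheaf.stalk (g₀.base x₀)) RY) =
      (algebraMap ((pullback g j).presheaf.stalk x₀) RX).comp (g₀.stalkMap x₀).hom := by
    have k2 : eY.inv ≫ g.stalkMap (b.base x₀) = g₀.stalkMap x₀ ≫ eX.inv := by
      rw [Iso.inv_comp_eq, ← Category.assoc, Iso.eq_comp_inv]
      exact key.symm
    refine (RingHom.comp_assoc _ _ _).symm.trans ((congrArg (RingHom.comp · eY.inv.hom) hc).trans ?_)
    refine (RingHom.comp_assoc _ _ _).trans ?_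
    exact (congrArg ((algebraMap (X.presheaf.stalk (b.base x₀)) RX).comp) (congrArg CommRingCat.Hom.hom k2)).trans rfl
  intro t Ω _ _ _ _
  exact isAcyclicSchemeN_of_bijective hL _ fun ℓ hℓ hℓL q hq =>
    bijective_Hpull_fibre H j x₀ (algebraMap RY RX) hψ t Ω hℓ hℓL q hq

/-- Base change along open immersions over quasi-finite schemes gives local acyclicity. -/
theorem isLocAcyclicN_of_openBC (H : OpenBC g L n) : EtAcyc.IsLocAcyclicN g L n := by
  by_cases hL : ∃ ℓ ∈ L, ℓ.Prime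
  · exact LocAcycBC6.isLocAcyclicN_of_geomFibres n g (geomFibres_of_openBC H hL)
  · push Not at hL
    intro x RY RX _ _ _ _ _ _ _ _ _ _ _ _ _ V
    exact compN_of_no_prime _ hL n

end Fibre

end Groth.Agent.BcMapQ6
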