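import Groth.Agent.Lib.BcMapQ6.Generic
import Groth.Agent.Lib.BcMapQ6.LocAcyc
import Groth.Agent.Lib.PointLim24.Crit
import Groth.Agent.Lib.NearLA6.Sections

/-!
# The generic fibre and locally constant sheaves
-/

set_option autoImplicit false
set_option linter.style.haveILetI false
set_option linter.unusedSectionVars false
set_option backward.isDefEq.respectTransparency.types false

universe u

open CategoryTheory CategoryTheory.Limits AlgebraicGeometry Opposite CategoryTheory.Abelian IsLocalRing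

namespace Groth.Agent.BcMapQ6

open Groth.Agent.EtStalk Groth.Agent.EtAcyc24 Groth.Agent.StrictLim24

section Constant

/-- Elements of stalks of torsion sheaves are torsion. -/
theorem exists_nsmul_stalk {X : Scheme.{u}} {L : Set ℕ} {F : EtCoh.Ab X} (hF : EtAcyc.IsLTorsion L F)
    {Ω : Type u} [Field Ω] [IsSepClosed Ω] (ξ : Spec (CommRingCat.of Ω) ⟶ X) (z : (EtCoh.stalk ξ).obj F) :
    ∃ a : ℕ, EtAcyc.PrimesIn L a ∧ a • z = 0 := by
  obtain ⟨U, φ, s, rfl⟩ := germ_surjective ξ F z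
  obtain ⟨V, g, a, hv, ha, h0⟩ := hF U s (fibPt φ)
  refine ⟨a, ha, ?_⟩
  rw [← map_nsmul, (mem_agree_iff_germ F φ (a • s) 0).1 ⟨V, g, hv, by rw [map_nsmul, h0, map_zero]⟩, map_zero]

/-- Constant sheaves with torsion values are torsion sheaves. -/
theorem isLTorsion_cs {X : Scheme.{u}} {L : Set ℕ} (M : AddCommGrpCat.{u + 1})
    (hM : ∀ m : M, ∃ a : ℕ, EtAcyc.PrimesIn L a ∧ a • m = 0) : EtAcyc.IsLTorsion L ((LocAcyc24.cs X).obj M) := by
  intro U s x
  obtain ⟨φ, hφ⟩ := exists_fib U x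
  obtain ⟨m, hm⟩ := (LocAcyc24.bijective_germ_cst M _ φ).2 (germ _ ((LocAcyc24.cs X).obj M) φ s)
  obtain ⟨V, g, hv, he⟩ := (mem_agree_iff_germ ((LocAcyc24.cs X).obj M) φ s (LocAcyc24.cst M U m)).2 hm.symm
  obtain ⟨a, ha, h0⟩ := hM m
  obtain ⟨v, hv⟩ := hv
  refine ⟨V, g, a, ⟨v, hv.trans hφ⟩, ha, ?_⟩
  show a • ((LocAcyc24.cs X).obj M).obj.map g.op s = 0
  rw [he, ← map_nsmul, ← map_nsmul, h0, map_zero, map_zero]

/-- Constant sheaves keep their sections on connected schemes over strictly henselian ones. -/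
theorem bijective_sec_cs {R : Type u} [CommRing R] [HenselianLocalRing R] [IsSepClosed (ResidueField R)]
    {P : Scheme.{u}} [ConnectedSpace P] (a : P ⟶ Spec (CommRingCat.of R)) (M : AddCommGrpCat.{u + 1}) :
    Function.Bijective (sec a ((LocAcyc24.cs (Spec (CommRingCat.of R))).obj M) (EtCoh.top _) a (Category.comp_id a)) := by
  let S := Spec (CommRingCat.of R)
  let G := (LocAcyc24.cs S).obj M
  let G' := (EtCoh.pull a).obj G
  have hpt : ∀ {Ω : Type u} [Field Ω] [IsSepClosed Ω] (ξ : Spec (CommRingCat.of Ω) ⟶ P) (φ : fib ξ (EtCoh.top P)),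
      Function.Bijective fun m : M => germ ξ G' φ (sec a G (EtCoh.top S) a (Category.comp_id a) (LocAcyc24.cst M _ m)) := by
    intro Ω _ _ ξ φ
    let φ' : fib (ξ ≫ a) (EtCoh.top S) := Over.homMk (ξ ≫ a) (Category.comp_id _)
    have e : ∀ s, germ ξ G' φ (sec a G (EtCoh.top S) a (Category.comp_id a) s) =
        stalkPull a ξ G (germ (ξ ≫ a) G φ' s) := fun s => by
      rw [sec_apply, germ_stalkPull]
      refine (germ_map ξ G' (topLift a (EtCoh.top S) a (Category.comp_id a)) φ _).trans ?_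
      refine congrArg (fun w => germ ξ G' w _) ?_
      haveI : IsIso ((EtCoh.bc a).obj (EtCoh.top S)).hom := by
        haveI : IsIso (EtCoh.top S).hom := show IsIso (𝟙 S) from inferInstance
        exact inferInstanceAs (IsIso (pullback.snd (EtCoh.top S).hom a))
      exact Over.OverMorphism.ext ((cancel_mono ((EtCoh.bc a).obj (EtCoh.top S)).hom).1
        ((Over.w _).trans (Over.w (liftFib a ξ φ')).symm))
    have h := (ConcreteCategory.bijective_of_isIso (stalkPull a ξ G)).comp (LocAcyc24.bijective_germ_cst M (ξ ≫ a) φ')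
    refine (congrArg Function.Bijective (funext fun m => ?_)).mpr h
    exact e (LocAcyc24.cst M _ m)
  have key : ∀ z : P, ∃ (Ω : Type u) (_ : Field Ω) (_ : IsSepClosed Ω) (ξ : Spec (CommRingCat.of Ω) ⟶ P)
      (φ : fib ξ (EtCoh.top P)), fibPt φ = z ∧
      Function.Bijective fun m : M => germ ξ G' φ (sec a G (EtCoh.top S) a (Category.comp_id a) (LocAcyc24.cst M _ m)) :=
    fun z => by
      obtain ⟨φ, hφ⟩ := exists_fib (EtCoh.top P) z
      exact ⟨_, inferInstance, inferInstance, _, φ, hφ, hpt _ φ⟩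
  refine ⟨?_, fun t => ?_⟩
  · intro s s' h
    obtain ⟨z⟩ := (inferInstance : Nonempty P)
    obtain ⟨m, rfl⟩ := (LocAcyc24.bijective_cst_top R M).2 s
    obtain ⟨m', rfl⟩ := (LocAcyc24.bijective_cst_top R M).2 s'
    obtain ⟨Ω, _, _, ξ, φ, -, hb⟩ := key z
    exact congrArg _ (hb.1 (congrArg (germ ξ G' φ) h))
  · let C : M → Set (EtCoh.top P).left := fun m =>
      agree G' t (sec a G (EtCoh.top S) a (Category.comp_id a) (LocAcyc24.cst M _ m))
    have hex : ∀ z, ∃ m, z ∈ C m := fun z => by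
      obtain ⟨Ω, _, _, ξ, φ, hz, hb⟩ := key z
      obtain ⟨m, hm⟩ := hb.2 (germ ξ G' φ t)
      exact ⟨m, hz ▸ (mem_agree_iff_germ G' φ t _).2 hm.symm⟩
    have huni : ∀ z m m', z ∈ C m → z ∈ C m' → m = m' := fun z m m' h₁ h₂ => by
      obtain ⟨Ω, _, _, ξ, φ, hz, hb⟩ := key z
      subst hz
      exact hb.1 (((mem_agree_iff_germ G' φ _ _).1 h₁).symm.trans ((mem_agree_iff_germ G' φ _ _).1 h₂))
    obtain ⟨z₀⟩ := (inferInstance : Nonempty P)
    obtain ⟨m, hm⟩ := hex z₀
    have hcl : IsClopen (C m) := by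
      refine ⟨⟨?_⟩, isOpen_agree _ _ _⟩
      rw [show (C m)ᶜ = ⋃ m' ∈ {m' | m' ≠ m}, C m' from ?_]
      · exact isOpen_biUnion fun _ _ => isOpen_agree _ _ _
      · ext z
        refine ⟨fun hz => ?_, fun hz hzm => ?_⟩
        · obtain ⟨m', hm'⟩ := hex z
          exact Set.mem_iUnion₂.2 ⟨m', fun h => hz (h ▸ hm'), hm'⟩
        · obtain ⟨m', hne, hm'⟩ := Set.mem_iUnion₂.1 hz
          exact hne (huni z m' m hm' hzm)
    have huniv : C m = Set.univ := @IsClopen.eq_univ P _ _ (C m) hcl ⟨z₀, hm⟩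
    exact ⟨LocAcyc24.cst M _ m,
      (eq_of_agree G' fun z => show z ∈ C m by rw [huniv]; exact Set.mem_univ z).symm⟩

end Constant

section Main

variable {X Y : Scheme.{u}}

/-- Pullback to the source is bijective in low degrees when the unit is invertible and the direct images vanish. -/
theorem bijective_Hpull_of_vanish {Z : Scheme.{u}} (g : Z ⟶ X) [PreservesFiniteLimits (EtCoh.pull g)] (F : EtCoh.Ab X)
    (n : ℕ) [IsIso ((EtCoh.pullPushAdj g).unit.app F)]
    (hR : ∀ p, 1 ≤ p → p ≤ n → IsZero ((EtCoh.Rpush g p).obj ((EtCoh.pull g).obj F))) :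
    (∀ q, q ≤ n → Function.Bijective (EtCore.Hpull g F q)) ∧ Function.Injective (EtCore.Hpull g F (n + 1)) := by
  let η := (EtCoh.pullPushAdj g).unit.app F
  have e : ∀ q, ⇑(EtCore.Hpull g F q) =
      ⇑(EtLim.HofPush g ((EtCoh.pull g).obj F) q) ∘ fun x => x.comp (Ext.mk₀ η) (add_zero q) := fun q => funext fun x => by
    refine Eq.symm ((EtLim24.HofPush_mk₀ g ((EtCoh.pull g).obj F) η q x).trans ?_)
    rw [Hpull_eq]
    refine congrArg (fun z => (Ext.mk₀ (EtCore.pullConst g ℤ).inv).comp z (zero_add q)) ?_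
    refine (congrArg (fun z => (x.mapExactFunctor (EtCoh.pull g)).comp (Ext.mk₀ z) (add_zero q))
      ((EtCoh.pullPushAdj g).left_triangle_components F)).trans ?_
    exact Ext.comp_mk₀_id _
  constructor
  · intro q hq
    rw [e q]
    exact (HofPush_bounded g q _ fun p hp hpq => hR p hp (hpq.trans hq)).1.comp (bijective_comp_iso (asIso η) q)
  · rw [e (n + 1)]
    exact (HofPush_bounded g n _ hR).2.comp (bijective_comp_iso (asIso η) (n + 1)).1

variable [IsIntegral Y] [IsSepClosed (Y.residueField (genericPoint Y))]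

set_option maxHeartbeats 1000000 in
/-- Cohomology of a locally constant torsion sheaf is that of the generic fibre. -/
theorem bijective_Hpull_genericFibre (hY : Pi1.IsNormalScheme Y) (f : X ⟶ Y) (L : Set ℕ) (n : ℕ)
    (hf : EtAcyc.IsLocAcyclicN f L n) (F : EtCoh.Ab X) (hF : EtAcyc.IsLTorsion L F) (hlc : EtRest.IsLocallyConstant F)
    [PreservesFiniteLimits (EtCoh.pull (pullback.fst f (Y.fromSpecResidueField (genericPoint Y))))] :
    (∀ q : ℕ, q ≤ n →
      Function.Bijective (EtCore.Hpull (pullback.fst f (Y.fromSpecResidueField (genericPoint Y))) F q)) ∧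
    Function.Injective (EtCore.Hpull (pullback.fst f (Y.fromSpecResidueField (genericPoint Y))) F (n + 1)) := by
  let g := pullback.fst f (Y.fromSpecResidueField (genericPoint Y))
  by_cases hL : ∃ ℓ ∈ L, ℓ.Prime
  swap
  · push Not at hL
    exact compN_of_no_prime g hL n F hF
  haveI : QuasiCompact g := inferInstance
  haveI : QuasiSeparated g := inferInstance
  have pts : ∀ x : X, ∃ (Ω : Type u) (_ : Field Ω) (_ : IsSepClosed Ω) (ξ : Spec (CommRingCat.of Ω) ⟶ X)
      (_ : ξ default = x), Function.Bijective ((EtCoh.stalk ξ).map ((EtCoh.pullPushAdj g).unit.app F)) ∧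
      ∀ p, 1 ≤ p → p ≤ n → IsZero ((EtCoh.stalk ξ).obj ((EtCoh.Rpush g p).obj ((EtCoh.pull g).obj F))) := by
    intro x
    let R := Hens.Hsh (X.presheaf.stalk x)
    haveI : IsSepClosed (ResidueField R) :=
      (Hensel.IsStrictHenselization.isSepClosure (R := X.presheaf.stalk x) (S := R)).sep_closed
    let σ := Hens2.specOf X x R
    obtain ⟨T⟩ := nonempty_strictSys X x R
    refine ⟨_, inferInstance, inferInstance, closedPt R ≫ σ, LocAcycBC6.closedPt_specOf x, ?_⟩
    obtain ⟨e, he, hP⟩ := isAcyclicSchemeN_genericFibre hY f hL hf x R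
    haveI := he
    obtain ⟨M, ⟨i⟩⟩ := LocAcyc24.exists_pull_iso_const σ F hlc
    haveI := hP.2.1
    refine ⟨NearLA6.bijective_stalk_unit g T F ?_, fun p hp hpn => ?_⟩
    · refine (StalkCrit24.bijective_Hpull_iff_of_iso (pullback.snd g σ) i 0).2 ?_
      exact (PointLim24.bijective_Hpull_zero_iff _ _).2 (bijective_sec_cs (pullback.snd g σ) M)
    · obtain ⟨eq⟩ := T.nonempty_stalk_Rpush_iso g p
      obtain ⟨u⟩ := LocAcyc24.stalk_equiv σ F M i
      have hM : ∀ m : M, ∃ a : ℕ, EtAcyc.PrimesIn L a ∧ a • m = 0 := fun m => by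
        obtain ⟨a, ha, h0⟩ := exists_nsmul_stalk hF _ (u.symm m)
        exact ⟨a, ha, by rw [← u.apply_symm_apply m, ← map_nsmul, h0, map_zero]⟩
      have h1 := subsingleton_H_pull_torsion (Ω := Y.residueField (genericPoint Y)) e hP _ (isLTorsion_cs M hM) p hp hpn
      have i' : (EtCoh.pull (pullback.fst g σ)).obj ((EtCoh.pull g).obj F) ≅
          (EtCoh.pull e).obj ((LocAcyc24.cs (Spec (Y.residueField (genericPoint Y)))).obj M) :=
        (EtLim24.pullT (pullback.fst g σ) g _ rfl).symm.app F ≪≫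
          (EtLim24.pullT (pullback.snd g σ) σ _ pullback.condition.symm).app F ≪≫
          (EtCoh.pull (pullback.snd g σ)).mapIso i ≪≫ (EtCore.pullConstIso (pullback.snd g σ)).app M ≪≫
          ((EtCore.pullConstIso e).app M).symm
      haveI : Subsingleton (EtCoh.H _ ((EtCoh.pull (pullback.fst g σ)).obj ((EtCoh.pull g).obj F)) p) :=
        ((EtCoh.HF _ p).mapIso i').addCommGroupIsoToAddEquiv.toEquiv.subsingleton_congr.2 h1
      exact (@AddCommGrpCat.isZero_of_subsingleton _ this : IsZero ((EtCoh.HF (pullback g σ) p).obj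
        ((EtCoh.pull (pullback.fst g σ)).obj ((EtCoh.pull g).obj F)))).of_iso (eq.app _)
  haveI : IsIso ((EtCoh.pullPushAdj g).unit.app F) := NearLA6.isIso_of_points _ fun x => by
    obtain ⟨Ω, i₁, i₂, ξ, hξ, hb, -⟩ := pts x
    exact ⟨Ω, i₁, i₂, ξ, hξ, hb⟩
  refine bijective_Hpull_of_vanish g F n fun p hp hpn => NearLA6.isZero_of_points _ fun x => ?_
  obtain ⟨Ω, i₁, i₂, ξ, hξ, -, hz⟩ := pts x
  exact ⟨Ω, i₁, i₂, ξ, hξ, hz p hp hpn⟩

end Main

end Groth.Agent.BcMapQ6
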