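import Groth.Agent.Lib.LocAcycBC6.LocBC
import Groth.Agent.Lib.EtBCQ24.FirstDegree

/-!
# Base change for torsion sheaves from local acyclicity
-/

set_option autoImplicit false
universe u
set_option backward.isDefEq.respectTransparency.types false
set_option linter.style.haveILetI false

open CategoryTheory CategoryTheory.Limits AlgebraicGeometry Opposite IsLocalRing

namespace Groth.Agent.BcMapQ6

open Groth.Agent.EtStalk Groth.Agent.EtAcyc24 Groth.Agent.LocAcycBC6

variable {X Y : Scheme.{u}}

/-- A strict localisation maps into every open neighbourhood of its point. -/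
theorem range_specOf_subset {S : Scheme.{u}} (U : S.Opens) {s : S} (hs : s ∈ U) {R : Type u} [CommRing R] [IsLocalRing R]
    [Algebra (S.presheaf.stalk s) R] [IsLocalHom (algebraMap (S.presheaf.stalk s) R)] :
    Set.range (Hens2.specOf S s R).base ⊆ Set.range U.ι.base := by
  rintro _ ⟨z, rfl⟩
  rw [Scheme.Opens.range_ι, Hens2.specOf, Scheme.Hom.comp_apply]
  exact (Scheme.range_fromSpecStalk (X := S) (x := s)).le (Set.mem_range_self _) |>.mem_open U.2 hs

set_option maxHeartbeats 2000000 in
/-- The comparisons pass to quasi-finite base changes. -/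
theorem locBC_baseChange' {g : X ⟶ Y} {L : Set ℕ} {n : ℕ} (hg : EtAcyc.IsLocAcyclicN g L n) {Y' : Scheme.{u}}
    (i : Y' ⟶ Y) [LocallyQuasiFinite i] [LocallyOfFiniteType i] :
    LocBC (pullback.snd g i) L n := by
  intro x'
  let g' := pullback.snd g i
  let x := (pullback.fst g i).base x'
  let RX := Hens.Hsh (X.presheaf.stalk x)
  let RY := Hens.Hsh (Y.presheaf.stalk (g.base x))
  let RX' := Hens.Hsh ((pullback g i).presheaf.stalk x')
  let RY' := Hens.Hsh (Y'.presheaf.stalk (g'.base x'))
  haveI : IsSepClosed (ResidueField RX') :=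
    (Hensel.IsStrictHenselization.isSepClosure (R := (pullback g i).presheaf.stalk x') (S := RX')).sep_closed
  haveI : IsSepClosed (ResidueField RY') :=
    (Hensel.IsStrictHenselization.isSepClosure (R := Y'.presheaf.stalk (g'.base x')) (S := RY')).sep_closed
  obtain ⟨α, hα, hαe⟩ := exists_strictLoc g' x'
  letI := α.toAlgebra
  haveI : IsLocalHom (algebraMap RY' RX') := hα
  obtain ⟨γ, φ, β, hγ, hφi, hγc, hφe, sqS⟩ := exists_strictLocalization_isPullback g i
    (LocAcyc24.isIntegral_specOf_quasiFinite i) x' RY' RX' RY RX ((LocAcyc24.specOf_compat g' α).2 hαe)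
  letI := γ.toAlgebra
  haveI : IsLocalHom (algebraMap RY RX) := hγ
  have hacyc : EtAcyc.IsAcyclicN (Spec.map (CommRingCat.ofHom (algebraMap RY RX))) L n := hg x RY RX hγc
  refine ⟨RX', RY', inferInstance, inferInstance, inferInstance, inferInstance, inferInstance, inferInstance,
    Hens2.specOf (pullback g i) x' RX', Hens2.specOf Y' (g'.base x') RY', Spec.map (CommRingCat.ofHom α), hαe,
    closedPt_specOf x', StrictLim24.nonempty_strictSys (pullback g i) x' RX',
    StrictLim24.nonempty_strictSys Y' (g'.base x') RY', fun T P p hp hp' m c sq F hF q hq => ?_⟩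
  haveI := hp
  haveI := hp'
  let σy : Spec (CommRingCat.of RY) ⟶ Y := Hens2.specOf Y (g.base x) RY
  let σ' : Spec (CommRingCat.of RY') ⟶ Y' := Hens2.specOf Y' (g'.base x') RY'
  let sφ : Spec (CommRingCat.of RY') ⟶ Spec (CommRingCat.of RY) := Spec.map (CommRingCat.ofHom φ)
  have hφe' : sφ ≫ σy = σ' ≫ i := hφe
  obtain ⟨U, hU, hy', -⟩ := exists_isAffineOpen_mem_and_subset (X := Y') (x := g'.base x') (U := ⊤) trivial
  haveI : IsAffine (U : Scheme.{u}) := hU
  let σU : Spec (CommRingCat.of RY') ⟶ U := IsOpenImmersion.lift U.ι σ' (range_specOf_subset U hy')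
  have hσU : σU ≫ U.ι = σ' := IsOpenImmersion.lift_fac _ _ _
  let i₀ := U.ι ≫ i
  haveI : IsSeparated i₀ := inferInstance
  let ρ : Spec (CommRingCat.of RY') ⟶ pullback i₀ σy :=
    pullback.lift σU sφ (by rw [show σU ≫ i₀ = σ' ≫ i by rw [← hσU, Category.assoc]]; exact hφe'.symm)
  haveI : IsIntegralHom sφ := IsIntegralHom.SpecMap_iff.2 hφi
  haveI : IsSeparated (pullback.snd i₀ σy) := MorphismProperty.pullback_snd _ _ ‹_›
  haveI : IsIntegralHom ρ := by
    haveI : IsIntegralHom (ρ ≫ pullback.snd i₀ σy) := by rw [pullback.lift_snd]; infer_instance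
    exact IsIntegralHom.of_comp ρ (pullback.snd i₀ σy)
  let p' := pullback.snd p U.ι
  haveI : LocallyQuasiFinite p' := MorphismProperty.pullback_snd _ _ hp
  haveI : LocallyOfFiniteType p' := MorphismProperty.pullback_snd _ _ hp'
  let a : pullback p σ' ⟶ pullback p U.ι := pullback.lift (pullback.fst p σ') (pullback.snd p σ' ≫ σU)
    (by rw [Category.assoc, hσU]; exact pullback.condition)
  have sqa : IsPullback a (pullback.snd p σ') p' σU := by
    refine IsPullback.of_right ?_ (pullback.lift_snd _ _ _) (IsPullback.of_hasPullback p U.ι)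
    rw [pullback.lift_fst, hσU]
    exact IsPullback.of_hasPullback p σ'
  let pc := p' ≫ i₀
  let π : pullback p σ' ⟶ pullback pc σy := pullback.lift a (pullback.snd p σ' ≫ sφ)
    (by rw [← Category.assoc, sqa.w, Category.assoc, Category.assoc, hφe', ← Category.assoc σU, hσU])
  let q₁ : pullback pc σy ⟶ pullback i₀ σy := pullback.lift (pullback.fst pc σy ≫ p') (pullback.snd pc σy)
    (by rw [Category.assoc]; exact pullback.condition)
  have sq₁ : IsPullback (pullback.fst pc σy) q₁ p' (pullback.fst i₀ σy) := by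
    refine IsPullback.of_bot ?_ (pullback.lift_fst _ _ _).symm (IsPullback.of_hasPullback i₀ σy)
    rw [pullback.lift_snd]
    exact IsPullback.of_hasPullback pc σy
  have sqπ : IsPullback π (pullback.snd p σ') q₁ ρ := by
    refine IsPullback.of_right ?_ ?_ sq₁
    · rw [pullback.lift_fst, pullback.lift_fst]
      exact sqa
    · apply pullback.hom_ext
      · rw [Category.assoc, pullback.lift_fst, ← Category.assoc, pullback.lift_fst, Category.assoc, pullback.lift_fst]
        exact sqa.w
      · rw [Category.assoc, pullback.lift_snd, pullback.lift_snd, Category.assoc, pullback.lift_snd]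
  haveI : IsIntegralHom π := MorphismProperty.of_isPullback sqπ.flip ‹IsIntegralHom ρ›
  haveI : LocallyQuasiFinite pc := inferInstance
  haveI : LocallyQuasiFinite (pullback.snd pc σy) := MorphismProperty.pullback_snd _ _ ‹_›
  haveI : LocallyOfFiniteType (pullback.snd pc σy) := MorphismProperty.pullback_snd _ _ (inferInstance : LocallyOfFiniteType pc)
  let sψ : Spec (CommRingCat.of RX) ⟶ Spec (CommRingCat.of RY) := Spec.map (CommRingCat.ofHom γ)
  let μ := pullback.fst (pullback.snd pc σy) sψ
  let sβ : Spec (CommRingCat.of RX') ⟶ Spec (CommRingCat.of RX) := Spec.map (CommRingCat.ofHom β)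
  have hπs : π ≫ pullback.snd pc σy = pullback.snd p σ' ≫ sφ := pullback.lift_snd _ _ _
  have hout : IsPullback (c ≫ sβ) m sψ (π ≫ pullback.snd pc σy) := by
    rw [hπs]
    exact sq.flip.paste_horiz sqS
  let π' : P ⟶ pullback (pullback.snd pc σy) sψ := pullback.lift (m ≫ π) (c ≫ sβ)
    (by rw [Category.assoc]; exact hout.w.symm)
  have sqm : IsPullback m π' π μ := by
    refine (IsPullback.of_right ?_ (pullback.lift_fst _ _ _) (IsPullback.of_hasPullback (pullback.snd pc σy) sψ).flip).flip
    rw [pullback.lift_snd]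
    exact hout
  exact bijective_Hpull_of_integral sqm L n (compN_of_isPullback (IsPullback.of_hasPullback _ sψ).flip hacyc)
    F (isLTorsion_push π L hF) q hq

variable {Xb Yb : Scheme.{u}} {g : X ⟶ Y} {p : Yb ⟶ Y} {pY : Xb ⟶ X} {hb : Xb ⟶ Yb}
  [QuasiCompact p] [QuasiSeparated p] [LocallyQuasiFinite p] [LocallyOfFiniteType p]
  [PreservesFiniteLimits (EtCoh.pull hb)] {L : Set ℕ} {n : ℕ}

/-- Base change in degrees up to `n` for sheaves killed by an integer. -/
theorem isIso_bcQ_killed (hg : LocBC g L n) (sq : IsPullback hb pY p g) {a : ℕ} (ha : EtAcyc.PrimesIn L a) :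
    ∀ q ≤ n, ∀ F : EtCoh.Ab Yb, EtCoh.KilledBy a F → IsIso (EtBC.bcQ p g pY hb sq.w q F) := by
  intro q
  induction q with
  | zero =>
    intro _ F hF
    haveI := hg.isIso_baseChange0 sq (isLTorsion_of_nsmul L ha (EtBCQ24.nsmul_id_of_killedBy hF))
    haveI : IsIso ((EtCoh.pull g).map ((EtCoh.push p).toRightDerivedZero.app F) ≫ EtBC.bcQ p g pY hb sq.w 0 F) := by
      rw [EtBC.bcQ_zero_compat p g pY hb sq.w F]
      infer_instance
    exact IsIso.of_isIso_comp_left ((EtCoh.pull g).map ((EtCoh.push p).toRightDerivedZero.app F)) _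
  | succ m ih =>
    intro hm F hF
    have H := ih (by lia)
    obtain ⟨J, u, hu, hacyc, hJ⟩ := EtBCQ24.exists_acyc_embed F (EtBCQ24.nsmul_id_of_killedBy hF)
    obtain ⟨φ, hφ, -⟩ :=
      EtBCQ24.exists_mono_coker g p pY hb sq.w a m H F J u (EtBCQ24.killedBy_of_nsmul hJ)
    haveI : Epi (EtBC.bcQ p g pY hb sq.w (m + 1) J) :=
      ((hg.isZero_Rpush sq (isLTorsion_of_nsmul L ha hJ) (m + 1) hm
        (isZero_Rpush_of_acyc p hacyc (m + 1) m.succ_pos))).epi _
    haveI : Epi (EtBC.bcQ p g pY hb sq.w (m + 1) F) := Abelian.epi_of_cokernel_π_eq_zero _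
      (IsZero.eq_of_tgt (IsZero.of_mono φ (isZero_cokernel_of_epi _)) _ _)
    haveI := EtBCQ24.mono_bcQ_succ g p pY hb sq.w a m H F hF
    exact isIso_of_mono_of_epi _

/-- Base change in degree `n + 1` for sheaves killed by an integer. -/
theorem mono_bcQ_killed (hg : LocBC g L n) (sq : IsPullback hb pY p g) {a : ℕ} (ha : EtAcyc.PrimesIn L a)
    (F : EtCoh.Ab Yb) (hF : EtCoh.KilledBy a F) : Mono (EtBC.bcQ p g pY hb sq.w (n + 1) F) :=
  EtBCQ24.mono_bcQ_succ g p pY hb sq.w a n (isIso_bcQ_killed hg sq ha n le_rfl) F hF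

end Groth.Agent.BcMapQ6
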