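import Groth.Agent.Lib.SitePAdj16.PartialAdj
import Groth.Agent.Lib.KInj.Basic
import Groth.Agent.Lib.KInj.Derived
import Groth.Agent.Lib.KInj.DerivedAdj

/-!
# An adjunction of derived functors is computed by the adjunction on complexes
-/

set_option autoImplicit false
set_option linter.style.haveILetI false
set_option linter.unusedSectionVars false
set_option backward.isDefEq.respectTransparency false
set_option backward.isDefEq.respectTransparency.types false

universe w w₁ w' v v' u u'

open CategoryTheory CategoryTheory.Limits HomologicalComplex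

namespace Groth.Agent.BcMapQ6

variable {D : Type u'} [Category.{v'} D] [Abelian D] [HasExt.{w'} D] [HasDerivedCategory.{w₁} D]
  {A : Type u} [Category.{v} A] [Abelian A] [EnoughInjectives A] [HasDerivedCategory.{w} A]
  {R : A ⥤ D} {L : D ⥤ A} [R.Additive] [L.Additive] [PreservesFiniteLimits L] [PreservesFiniteColimits L]
  (adj : L ⊣ R) {RF : DerivedCategory A ⥤ DerivedCategory D}
  (α : R.mapHomotopyCategory (ComplexShape.up ℤ) ⋙ DerivedCategory.Qh ⟶ DerivedCategory.Qh ⋙ RF)

local notation "RC" => R.mapHomologicalComplex (ComplexShape.up ℤ)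
local notation "LC" => L.mapHomologicalComplex (ComplexShape.up ℤ)

/-- The class of the unit at a complex. -/
noncomputable def uCx (C : CochainComplex D ℤ) :
    DerivedCategory.Q.obj C ⟶ RF.obj (DerivedCategory.Q.obj ((LC).obj C)) :=
  DerivedCategory.Q.map ((KInjLib.adjComplexes adj (ComplexShape.up ℤ)).unit.app C) ≫
    (SitePAdj.αQ α).app ((LC).obj C)

theorem uCx_map (C : CochainComplex D ℤ) {I : CochainComplex A ℤ} (k : (LC).obj C ⟶ I) :
    uCx adj α C ≫ RF.map (DerivedCategory.Q.map k) =
      DerivedCategory.Q.map ((KInjLib.adjComplexes adj (ComplexShape.up ℤ)).homEquiv _ _ k) ≫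
        (SitePAdj.αQ α).app I := by
  rw [Adjunction.homEquiv_unit, Functor.map_comp, Category.assoc, uCx, Category.assoc]
  exact congrArg (DerivedCategory.Q.map ((KInjLib.adjComplexes adj (ComplexShape.up ℤ)).unit.app C) ≫ ·)
    ((SitePAdj.αQ α).naturality k).symm

variable [RF.IsRightDerivedFunctor α (HomotopyCategory.quasiIso A (ComplexShape.up ℤ))]
  (hk : KInjLib.EnoughKInj A)

include hk in
/-- The unit class is universal. -/
theorem bijective_uCx_comp (C : CochainComplex D ℤ) (K : DerivedCategory A) :
    Function.Bijective (fun g : DerivedCategory.Q.obj ((LC).obj C) ⟶ K => uCx adj α C ≫ RF.map g) := by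
  suffices key : ∀ (I : CochainComplex A ℤ), I.IsKInjective →
      Function.Bijective (fun g : DerivedCategory.Q.obj ((LC).obj C) ⟶ DerivedCategory.Q.obj I =>
        uCx adj α C ≫ RF.map g) by
    obtain ⟨I, f, hI, hf⟩ := hk (DerivedCategory.Q.objPreimage K)
    haveI := (DerivedCategory.isIso_Q_map_iff_quasiIso A f).2 hf
    let e : K ≅ DerivedCategory.Q.obj I :=
      (DerivedCategory.Q.objObjPreimageIso K).symm ≪≫ asIso (DerivedCategory.Q.map f)
    have he : (fun g : DerivedCategory.Q.obj ((LC).obj C) ⟶ K => uCx adj α C ≫ RF.map g) =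
        (fun x => x ≫ RF.map e.inv) ∘ (fun g => uCx adj α C ≫ RF.map g) ∘ (fun g => g ≫ e.hom) := by
      funext g
      simp [← Functor.map_comp]
    rw [he]
    exact ((Iso.homToEquiv (RF.mapIso e.symm)).bijective).comp ((key I hI).comp (Iso.homToEquiv e).bijective)
  intro I hI
  let adjC := KInjLib.adjComplexes adj (ComplexShape.up ℤ)
  haveI : CochainComplex.IsKInjective ((RC).obj I) := KInjLib.isKInjective_of_adj R L adj I
  haveI := SitePAdj.isIso_αQ α hk I
  haveI hiso : IsIso ((SitePAdj.αQ α).app I) := inferInstance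
  refine ⟨fun g g' hg => ?_, fun f => ?_⟩
  · obtain ⟨k, rfl⟩ := KInjLib.exists_map_eq g
    obtain ⟨k', rfl⟩ := KInjLib.exists_map_eq g'
    have hg' : DerivedCategory.Q.map (adjC.homEquiv _ _ k) = DerivedCategory.Q.map (adjC.homEquiv _ _ k') :=
      (cancel_mono ((SitePAdj.αQ α).app I)).1 ((uCx_map adj α C k).symm.trans (hg.trans (uCx_map adj α C k')))
    obtain ⟨h⟩ := (KInjLib.map_eq_iff _ _).1 hg'
    refine (KInjLib.map_eq_iff k k').2 ⟨?_⟩
    have e : ∀ m : (LC).obj C ⟶ I, (LC).map (adjC.homEquiv _ _ m) ≫ adjC.counit.app I = m := fun m =>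
      (adjC.homEquiv_counit _ _ _).symm.trans ((adjC.homEquiv _ _).symm_apply_apply m)
    exact (Homotopy.ofEq (e k).symm).trans (((L.mapHomotopy h).compRight (adjC.counit.app I)).trans (Homotopy.ofEq (e k')))
  · obtain ⟨h, hh⟩ := KInjLib.exists_map_eq (K := C) (I := (RC).obj I) (f ≫ inv ((SitePAdj.αQ α).app I))
    refine ⟨DerivedCategory.Q.map ((adjC.homEquiv _ _).symm h), ?_⟩
    show uCx adj α C ≫ _ = f
    rw [uCx_map]
    erw [Equiv.apply_symm_apply, hh, Category.assoc, IsIso.inv_hom_id, Category.comp_id]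

variable (adjD : L.mapDerivedCategory ⊣ RF)

/-- The comparison of the given derived adjunction with the inverse image of a complex. -/
noncomputable def tCx (C : CochainComplex D ℤ) :
    L.mapDerivedCategory.obj (DerivedCategory.Q.obj C) ⟶ DerivedCategory.Q.obj ((LC).obj C) :=
  (adjD.homEquiv _ _).symm (uCx adj α C)

include hk in
theorem isIso_tCx (C : CochainComplex D ℤ) : IsIso (tCx adj α adjD C) := by
  rw [isIso_iff_coyoneda_map_bijective]
  intro K
  convert (adjD.homEquiv _ K).symm.bijective.comp (bijective_uCx_comp adj α hk C K) using 1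
  funext g
  exact (Adjunction.homEquiv_naturality_right_symm _ _ _).symm

end Groth.Agent.BcMapQ6
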