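import Groth.Agent.Lib.EtAcyc24.DerivedBC
import Groth.Agent.Lib.EtBCQ24.Mono
import Groth.Agent.Lib.RFPlus.DerivedZero
import Groth.Agent.Lib.BcMapQ6.Transpose

/-!
# The derived base change morphism on a sheaf and the base change morphisms in each degree
-/

set_option autoImplicit false
set_option linter.style.haveILetI false
set_option linter.unusedSectionVars false
set_option backward.isDefEq.respectTransparency false
set_option backward.isDefEq.respectTransparency.types false

universe u v v' u' u''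

open CategoryTheory CategoryTheory.Limits AlgebraicGeometry Opposite HomologicalComplex

namespace Groth.Agent.BcMapQ6

attribute [local instance] HasDerivedCategory.standard

section Extend

variable {C : Type u} [Category.{v} C] [Abelian C] {D : Type u'} [Category.{v'} D] [Abelian D]
  {ι ι' : Type*} {c : ComplexShape ι} {c' : ComplexShape ι'} (e : c.Embedding c')

/-- Natural transformations commute with extension by zero. -/
theorem mapExtendIso_natTrans {F G : C ⥤ D} [F.Additive] [G.Additive] (τ : F ⟶ G) (K : HomologicalComplex C c) :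
    (NatTrans.mapHomologicalComplex τ c').app (K.extend e) ≫ (RFPlus.mapExtendIso G e K).hom =
      (RFPlus.mapExtendIso F e K).hom ≫ extendMap ((NatTrans.mapHomologicalComplex τ c).app K) e := by
  have aux : ∀ o : Option ι, τ.app (extend.X K o) ≫ (RFPlus.mapExtendX G K o).hom =
      (RFPlus.mapExtendX F K o).hom ≫ extend.mapX ((NatTrans.mapHomologicalComplex τ c).app K) o := by
    rintro (_ | i)
    · exact (extend.isZero_X _ rfl).eq_of_tgt _ _
    · exact (Category.comp_id _).trans (Category.id_comp _).symm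
  exact HomologicalComplex.hom_ext _ _ fun i' => aux (e.r i')

variable {E : Type u''} [Category E] [Abelian E]

/-- Extension by zero and composite functors. -/
theorem mapExtendIso_comp (F : C ⥤ D) (G : D ⥤ E) [F.Additive] [G.Additive] (K : HomologicalComplex C c) :
    (RFPlus.mapExtendIso (F ⋙ G) e K).hom = (G.mapHomologicalComplex c').map (RFPlus.mapExtendIso F e K).hom ≫
      (RFPlus.mapExtendIso G e ((F.mapHomologicalComplex c).obj K)).hom := by
  have aux : ∀ o : Option ι, (RFPlus.mapExtendX (F ⋙ G) K o).hom = G.map (RFPlus.mapExtendX F K o).hom ≫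
      (RFPlus.mapExtendX G ((F.mapHomologicalComplex c).obj K) o).hom := by
    rintro (_ | i)
    · exact (extend.isZero_X _ rfl).eq_of_tgt _ _
    · exact ((Category.comp_id _).trans (G.map_id _)).symm
  exact HomologicalComplex.hom_ext _ _ fun i' => aux (e.r i')

end Extend

open Groth.Agent.EtStalk Groth.Agent.EtAcyc24

variable {X Y Xb Yb : Scheme.{u}} (h : Y ⟶ X) (p : Xb ⟶ X) (hb : Yb ⟶ Xb) (pY : Yb ⟶ Y) (w : hb ≫ p = pY ≫ h)

/-- The base change morphism on complexes. -/
noncomputable def ΨCx (I : CochainComplex (EtCoh.Ab Xb) ℤ) :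
    ((EtCoh.pull h).mapHomologicalComplex (ComplexShape.up ℤ)).obj ((pcx p).obj I) ⟶
      (pcx pY).obj (((EtCoh.pull hb).mapHomologicalComplex (ComplexShape.up ℤ)).obj I) :=
  (NatTrans.mapHomologicalComplex (EtBCQ24.bc0N p h pY hb w) (ComplexShape.up ℤ)).app I

variable [PreservesFiniteLimits (EtCoh.pull h)] [PreservesFiniteLimits (EtCoh.pull hb)]
  [DCoh.HasRpushEt Xb p] [DCoh.HasRpushEt Yb pY] [DCoh.HasRpushEt Y h] (adj : EtBC.pullD h ⊣ DCoh.RpushEt Y h)

theorem pushToPushPull_cx (I : CochainComplex (EtCoh.Ab Xb) ℤ) :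
    (NatTrans.mapHomologicalComplex (EtBC.pushToPushPull p h pY hb w) (ComplexShape.up ℤ)).app I =
      (KInjLib.adjComplexes (EtCoh.pullPushAdj h) (ComplexShape.up ℤ)).homEquiv _ _ (ΨCx h p hb pY w I) := by
  refine HomologicalComplex.hom_ext _ _ fun n => ?_
  rw [Adjunction.homEquiv_unit, HomologicalComplex.comp_f]
  show (EtBC.pushToPushPull p h pY hb w).app (I.X n) =
    (EtCoh.pullPushAdj h).unit.app ((EtCoh.push p).obj (I.X n)) ≫
      (EtCoh.push h).map (EtCoh.baseChange0 p h pY hb w (I.X n))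
  refine Eq.trans ?_ ((EtCoh.pullPushAdj h).homEquiv_unit _ _ _)
  rw [EtCoh.baseChange0, Equiv.apply_symm_apply]
  simp [EtBC.pushToPushPull]

/-- The tail of the base change morphism at a complex. -/
noncomputable def tailCx (I : CochainComplex (EtCoh.Ab Xb) ℤ) :
    DerivedCategory.Q.obj ((pcx pY).obj (((EtCoh.pull hb).mapHomologicalComplex (ComplexShape.up ℤ)).obj I)) ⟶
      (DCoh.RpushEt Yb pY).obj ((EtBC.pullD hb).obj (DerivedCategory.Qh.obj
        ((HomotopyCategory.quotient (EtCoh.Ab Xb) (ComplexShape.up ℤ)).obj I))) :=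
  (qI _).inv ≫
    (dUnit pY).app (((EtCoh.pull hb).mapHomotopyCategory (ComplexShape.up ℤ)).obj
        ((HomotopyCategory.quotient (EtCoh.Ab Xb) (ComplexShape.up ℤ)).obj I)) ≫
    (DCoh.RpushEt Yb pY).map ((EtCoh.pull hb).mapDerivedCategoryFactorsh.inv.app _)

theorem bcUnit_cx (I : CochainComplex (EtCoh.Ab Xb) ℤ) :
    (EtBC.bcUnit p h pY hb w).app ((HomotopyCategory.quotient (EtCoh.Ab Xb) (ComplexShape.up ℤ)).obj I) =
      (qI ((pcx p).obj I)).hom ≫ uCx (EtCoh.pullPushAdj h) (dUnit h) ((pcx p).obj I) ≫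
        (DCoh.RpushEt Y h).map (DerivedCategory.Q.map (ΨCx h p hb pY w I) ≫ tailCx hb pY I) := by
  let C₁ := ((EtCoh.pull hb).mapHomologicalComplex (ComplexShape.up ℤ)).obj I
  have e1 : (EtBC.bcUnit p h pY hb w).app ((HomotopyCategory.quotient (EtCoh.Ab Xb) (ComplexShape.up ℤ)).obj I) =
      DerivedCategory.Qh.map ((HomotopyCategory.quotient (EtCoh.Ab X) (ComplexShape.up ℤ)).map
        ((NatTrans.mapHomologicalComplex (EtBC.pushToPushPull p h pY hb w) (ComplexShape.up ℤ)).app I)) ≫
        (dUnit h).app ((HomotopyCategory.quotient (EtCoh.Ab Y) (ComplexShape.up ℤ)).obj ((pcx pY).obj C₁)) ≫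
        (DCoh.RpushEt Y h).map ((dUnit pY).app ((HomotopyCategory.quotient (EtCoh.Ab Yb) (ComplexShape.up ℤ)).obj C₁) ≫
          (DCoh.RpushEt Yb pY).map ((EtCoh.pull hb).mapDerivedCategoryFactorsh.inv.app _)) := by
    simp [EtBC.bcUnit, EtBC.pushToPushPullH]
    erw [compIso_refl_inv]
    simp only [CategoryTheory.Functor.map_id]
    erw [Category.id_comp, CategoryTheory.Functor.map_id, Category.id_comp]
    rfl
  rw [e1, dUnit_eq h, Functor.map_comp (DCoh.RpushEt Y h) (DerivedCategory.Q.map _)]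
  erw [reassoc_of% (uCx_map (EtCoh.pullPushAdj h) (dUnit h) ((pcx p).obj I) (ΨCx h p hb pY w I))]
  have e2 := DerivedCategory.quotientCompQhIso_hom_naturality
    ((NatTrans.mapHomologicalComplex (EtBC.pushToPushPull p h pY hb w) (ComplexShape.up ℤ)).app I)
  simp only [Category.assoc]
  erw [reassoc_of% e2, pushToPushPull_cx]
  simp only [tailCx, Functor.map_comp]
  rfl

variable (F : EtCoh.Ab Xb) (R : InjectiveResolution F) (R' : InjectiveResolution ((EtCoh.pull hb).obj F))
  (χ : ((EtCoh.pull hb).mapHomologicalComplex (ComplexShape.up ℕ)).obj R.cocomplex ⟶ R'.cocomplex)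

/-- The comparison of resolutions on complexes indexed by `ℤ`. -/
noncomputable def χZ :
    ((EtCoh.pull hb).mapHomologicalComplex (ComplexShape.up ℤ)).obj R.cochainComplex ⟶ R'.cochainComplex :=
  (RFPlus.mapExtendIso (EtCoh.pull hb) ComplexShape.embeddingUpNat R.cocomplex).hom ≫
    extendMap χ ComplexShape.embeddingUpNat

/-- The map of complexes computing the derived base change morphism. -/
noncomputable def ΦCx :
    ((EtCoh.pull h).mapHomologicalComplex (ComplexShape.up ℤ)).obj ((pcx p).obj R.cochainComplex) ⟶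
      (pcx pY).obj R'.cochainComplex :=
  ΨCx h p hb pY w R.cochainComplex ≫ (pcx pY).map (χZ hb F R R' χ)

variable (hχ : (EtCoh.pull hb).map (R.ι.f 0) ≫ χ.f 0 = R'.ι.f 0)

include hχ in
theorem quasiIso_χZ : _root_.QuasiIso (χZ hb F R R' χ) := by
  let ιK : (CochainComplex.single₀ _).obj ((EtCoh.pull hb).obj F) ⟶
      ((EtCoh.pull hb).mapHomologicalComplex (ComplexShape.up ℕ)).obj R.cocomplex := RDer.mapAug (EtCoh.pull hb) R.ι
  haveI : _root_.QuasiIso ιK := by
    show _root_.QuasiIso ((singleMapHomologicalComplex (EtCoh.pull hb) (ComplexShape.up ℕ) 0).inv.app F ≫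
      ((EtCoh.pull hb).mapHomologicalComplex (ComplexShape.up ℕ)).map R.ι)
    infer_instance
  have e : ιK ≫ χ = R'.ι := by
    refine HomologicalComplex.from_single_hom_ext ?_
    rw [comp_f, show ιK.f 0 = (EtCoh.pull hb).map (R.ι.f 0) from EtBCQ24.mapAug_f_zero _ _]
    exact hχ
  haveI : _root_.QuasiIso (ιK ≫ χ) := e ▸ R'.quasiIso
  haveI : _root_.QuasiIso χ := quasiIso_of_comp_left ιK χ
  haveI : _root_.QuasiIso (extendMap χ ComplexShape.embeddingUpNat) :=
    (quasiIso_extendMap_iff χ ComplexShape.embeddingUpNat).2 inferInstance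
  rw [χZ]
  infer_instance

include hχ in
/-- The derived base change morphism of a sheaf is the image of a map of complexes. -/
theorem nonempty_arrow_bcMap :
    Nonempty (Arrow.mk (EtBC.bcMap p h pY hb w adj (EtBC.single Xb F)) ≅
      Arrow.mk (DerivedCategory.Q.map (ΦCx h p hb pY w F R R' χ))) := by
  let I := R.cochainComplex
  let J := R'.cochainComplex
  let K := (HomotopyCategory.quotient (EtCoh.Ab Xb) (ComplexShape.up ℤ)).obj I
  haveI : I.IsKInjective := CochainComplex.isKInjective_of_injective _ 0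
  haveI : J.IsKInjective := CochainComplex.isKInjective_of_injective _ 0
  haveI : IsIso (DerivedCategory.Q.map R.ι') := (DerivedCategory.isIso_Q_map_iff_quasiIso _ R.ι').2 inferInstance
  let e : DerivedCategory.Qh.obj K ≅ EtBC.single Xb F :=
    qI I ≪≫ (asIso (DerivedCategory.Q.map R.ι')).symm
  have hn : (EtBC.pullD h).map ((DCoh.RpushEt Xb p).map e.hom) ≫ EtBC.bcMap p h pY hb w adj (EtBC.single Xb F) =
      EtBC.bcMap p h pY hb w adj (DerivedCategory.Qh.obj K) ≫ (DCoh.RpushEt Yb pY).map ((EtBC.pullD hb).map e.hom) := by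
    simp only [EtBC.bcMap]
    rw [← Adjunction.homEquiv_naturality_left_symm, ← Adjunction.homEquiv_naturality_right_symm]
    exact congrArg _ ((EtBC.bcAdj p h pY hb w).naturality e.hom)
  let v : DerivedCategory.Qh.obj (((EtCoh.push p).mapHomotopyCategory (ComplexShape.up ℤ)).obj K) ⟶
      (DCoh.RpushEt Xb p).obj (DerivedCategory.Qh.obj K) := (dUnit p).app K
  haveI : IsIso v := KInjLib.isIso_app_of_isKInjective KInjLib.enoughKInj_of_grothendieck (dUnit p) I
  have hfac : v ≫ (EtBC.bcAdj p h pY hb w).app (DerivedCategory.Qh.obj K) = (EtBC.bcUnit p h pY hb w).app K :=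
    Functor.rightDerived_fac_app _ _ _ _ _ _
  let t := tCx (EtCoh.pullPushAdj h) (dUnit h) adj ((pcx p).obj I)
  haveI : IsIso t := isIso_tCx (EtCoh.pullPushAdj h) (dUnit h) KInjLib.enoughKInj_of_grothendieck adj _
  have key : (EtBC.pullD h).map v ≫ EtBC.bcMap p h pY hb w adj (DerivedCategory.Qh.obj K) =
      (EtBC.pullD h).map (qI ((pcx p).obj I)).hom ≫ t ≫ DerivedCategory.Q.map (ΨCx h p hb pY w I) ≫
        tailCx hb pY I := by
    simp only [EtBC.bcMap, t, tCx]
    rw [← Adjunction.homEquiv_naturality_left_symm, hfac, ← Adjunction.homEquiv_naturality_right_symm,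
      ← Adjunction.homEquiv_naturality_left_symm]
    exact congrArg _ (bcUnit_cx h p hb pY w I)
  let C₁ := ((EtCoh.pull hb).mapHomologicalComplex (ComplexShape.up ℤ)).obj I
  haveI := quasiIso_χZ hb F R R' χ hχ
  haveI : IsIso (DerivedCategory.Q.map (χZ hb F R R' χ)) := (DerivedCategory.isIso_Q_map_iff_quasiIso _ _).2 inferInstance
  haveI : IsIso ((SitePAdj.αQ (dUnit pY)).app J) := SitePAdj.isIso_αQ (dUnit pY) KInjLib.enoughKInj_of_grothendieck J
  let qχ : DerivedCategory.Q.obj C₁ ≅ DerivedCategory.Q.obj J := asIso (DerivedCategory.Q.map (χZ hb F R R' χ))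
  have htail : tailCx hb pY I = DerivedCategory.Q.map ((pcx pY).map (χZ hb F R R' χ)) ≫
      (SitePAdj.αQ (dUnit pY)).app J ≫ (DCoh.RpushEt Yb pY).map (qχ.inv ≫ (qI C₁).inv ≫
        (EtCoh.pull hb).mapDerivedCategoryFactorsh.inv.app K) := by
    have hnat := (SitePAdj.αQ (dUnit pY)).naturality (χZ hb F R R' χ)
    erw [reassoc_of% hnat]
    rw [tailCx]
    erw [dUnit_eq pY C₁]
    simp only [Category.assoc, Functor.map_comp]
    erw [← Functor.map_comp_assoc (DCoh.RpushEt Yb pY) (DerivedCategory.Q.map (χZ hb F R R' χ)) qχ.inv]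
    rw [show DerivedCategory.Q.map (χZ hb F R R' χ) ≫ qχ.inv = 𝟙 _ from qχ.hom_inv_id, CategoryTheory.Functor.map_id,
      Category.id_comp]
    erw [Iso.inv_hom_id_assoc]
  let eT : DerivedCategory.Q.obj ((pcx pY).obj J) ≅ (DCoh.RpushEt Yb pY).obj ((EtBC.pullD hb).obj (EtBC.single Xb F)) :=
    asIso ((SitePAdj.αQ (dUnit pY)).app J) ≪≫ (DCoh.RpushEt Yb pY).mapIso (qχ.symm ≪≫ (qI C₁).symm ≪≫
      ((EtCoh.pull hb).mapDerivedCategoryFactorsh.app K).symm ≪≫ (EtBC.pullD hb).mapIso e)
  let eS : DerivedCategory.Q.obj (((EtCoh.pull h).mapHomologicalComplex (ComplexShape.up ℤ)).obj ((pcx p).obj I)) ≅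
      (EtBC.pullD h).obj ((DCoh.RpushEt Xb p).obj (EtBC.single Xb F)) :=
    (asIso t).symm ≪≫ (EtBC.pullD h).mapIso ((qI ((pcx p).obj I)).symm ≪≫ asIso v ≪≫ (DCoh.RpushEt Xb p).mapIso e)
  refine ⟨(Arrow.isoMk eS eT ?_).symm⟩
  show eS.hom ≫ EtBC.bcMap p h pY hb w adj (EtBC.single Xb F) = DerivedCategory.Q.map (ΦCx h p hb pY w F R R' χ) ≫ eT.hom
  simp only [eS, eT, Iso.trans_hom, Iso.symm_hom, Functor.mapIso_hom, asIso_inv, asIso_hom, Functor.map_comp,
    Category.assoc, IsIso.inv_comp_eq]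
  rw [hn, reassoc_of% key, htail, ΦCx]
  simp only [Functor.map_comp, Category.assoc]
  rw [← Functor.map_comp_assoc (EtBC.pullD h) (qI ((pcx p).obj I)).inv (qI ((pcx p).obj I)).hom, Iso.inv_hom_id,
    CategoryTheory.Functor.map_id, Category.id_comp]
  rfl

/-- The map of complexes is the extension of the one computing the base change morphisms in each degree. -/
theorem nonempty_arrow_ΦCx :
    Nonempty (Arrow.mk (ΦCx h p hb pY w F R R' χ) ≅
      Arrow.mk (extendMap (EtBCQ24.ψ p h pY hb w R.cocomplex R'.cocomplex χ) ComplexShape.embeddingUpNat)) := by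
  refine ⟨Arrow.isoMk (RFPlus.mapExtendIso (EtCoh.push p ⋙ EtCoh.pull h) ComplexShape.embeddingUpNat R.cocomplex)
    (RFPlus.mapExtendIso (EtCoh.push pY) ComplexShape.embeddingUpNat R'.cocomplex) ?_⟩
  show (RFPlus.mapExtendIso (EtCoh.push p ⋙ EtCoh.pull h) ComplexShape.embeddingUpNat R.cocomplex).hom ≫
      extendMap (EtBCQ24.ψ p h pY hb w R.cocomplex R'.cocomplex χ) ComplexShape.embeddingUpNat =
    ΦCx h p hb pY w F R R' χ ≫ (RFPlus.mapExtendIso (EtCoh.push pY) ComplexShape.embeddingUpNat R'.cocomplex).hom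
  rw [EtBCQ24.ψ, extendMap_comp, ΦCx, χZ, Functor.map_comp, Category.assoc, Category.assoc,
    RFPlus.mapExtendIso_naturality]
  erw [← reassoc_of% (mapExtendIso_natTrans ComplexShape.embeddingUpNat (EtBCQ24.bc0N p h pY hb w) R.cocomplex)]
  erw [mapExtendIso_comp]
  simp only [Category.assoc]
  rfl

end Groth.Agent.BcMapQ6
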