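import Groth.Agent.Lib.PointLim24.Split
import Groth.Agent.Lib.Hens.Normal
import Mathlib.RingTheory.Unramified.Field
import Mathlib.FieldTheory.IsSepClosed
import Mathlib.RingTheory.Localization.BaseChange
import Mathlib.AlgebraicGeometry.Pullbacks
import Mathlib.AlgebraicGeometry.FunctionField
import Groth.Prelude.Def_EtAcyc
import Groth.Prelude.Def_Pi1

/-!
# The separably closed generic point in a strict localisation of a normal scheme
-/

set_option autoImplicit false
set_option linter.style.haveILetI false
set_option linter.unusedSectionVars false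
set_option backward.isDefEq.respectTransparency.types false

universe u

open CategoryTheory CategoryTheory.Limits AlgebraicGeometry Opposite IsLocalRing
open scoped TensorProduct

namespace Groth.Agent.BcMapQ6

variable (O : Type u) [CommRing O] [IsLocalRing O] (R : Type u) [CommRing R] [IsLocalRing R] [Algebra O R]
  [IsLocalHom (algebraMap O R)] [Hensel.IsStrictHenselization O R]

/-- Over a normal local domain with separably closed fraction field, a strict henselization has no larger fraction
field. -/
theorem exists_isPullback_frac [IsDomain O] [IsIntegrallyClosed O] (K : Type u) [Field K] [Algebra O K]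
    [IsFractionRing O K] [IsSepClosed K] :
    ∃ κ : R →+* K, IsPullback (Spec.map (CommRingCat.ofHom κ)) (𝟙 _)
      (Spec.map (CommRingCat.ofHom (algebraMap O R))) (Spec.map (CommRingCat.ofHom (algebraMap O K))) := by
  haveI : IsDomain R := ((Hens.strictHenselization_normal_iff (R := O) (S := R)).2 ⟨inferInstance, inferInstance⟩).1
  haveI := Hens.strictHenselization_faithfullyFlat O R
  have hinj : Function.Injective (algebraMap O R) := FaithfulSMul.algebraMap_injective O R
  let K' := FractionRing R
  have hi' : Function.Injective ((algebraMap R K').comp (algebraMap O R)) :=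
    (IsFractionRing.injective R K').comp hinj
  letI : Algebra K K' := (IsFractionRing.lift hi').toAlgebra
  haveI : IsScalarTower O K K' := IsScalarTower.of_algebraMap_eq fun o =>
    ((IsFractionRing.lift_algebraMap hi' o).trans (IsScalarTower.algebraMap_apply O R K' o).symm).symm
  have himg : ∀ r : R, ∃ k : K, algebraMap K K' k = algebraMap R K' r := by
    intro r
    obtain ⟨E, _, _, _, ψ, e, rfl⟩ := PointLim24.exists_etale_range O R r
    let χ : E →ₐ[O] K' := (IsScalarTower.toAlgHom O R K').comp ψ
    let τ : K ⊗[O] E →ₐ[K] K' := Algebra.TensorProduct.lift (Algebra.ofId K K') χ fun _ _ => .all _ _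
    haveI : Module.Finite K (K ⊗[O] E) := Algebra.FormallyUnramified.finite_of_free K _
    haveI : IsArtinianRing (K ⊗[O] E) := IsArtinianRing.of_finite K _
    let P := RingHom.ker τ.toRingHom
    haveI : P.IsPrime := RingHom.ker_isPrime _
    haveI : P.IsMaximal := Ideal.IsPrime.isMaximal' inferInstance
    letI := Ideal.Quotient.field P
    haveI : Algebra.FormallyUnramified K ((K ⊗[O] E) ⧸ P) :=
      Algebra.FormallyUnramified.of_surjective (Ideal.Quotient.mkₐ K P) Ideal.Quotient.mk_surjective
    haveI : Algebra.IsSeparable K ((K ⊗[O] E) ⧸ P) := Algebra.FormallyUnramified.isSeparable K _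
    obtain ⟨k, hk⟩ := IsSepClosed.algebraMap_surjective ((K ⊗[O] E) ⧸ P) (k := K) (Ideal.Quotient.mk P (1 ⊗ₜ e))
    refine ⟨k, ?_⟩
    have h := congrArg (Ideal.Quotient.liftₐ P τ fun _ ha => ha) hk
    rw [AlgHom.commutes] at h
    refine h.trans ?_
    show τ (1 ⊗ₜ e) = _
    rw [Algebra.TensorProduct.lift_tmul, map_one, one_mul]
    rfl
  let ε : K ≃+* K' := RingEquiv.ofBijective (algebraMap K K') ⟨(algebraMap K K').injective, fun z => by
    obtain ⟨a, b, hb, rfl⟩ := IsFractionRing.div_surjective R z
    obtain ⟨k, hk⟩ := himg a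
    obtain ⟨l, hl⟩ := himg b
    exact ⟨k / l, by rw [map_div₀, hk, hl]⟩⟩
  let κ : R →+* K := ε.symm.toRingHom.comp (algebraMap R K')
  refine ⟨κ, ?_⟩
  have hκ : Function.Injective κ := ε.symm.injective.comp (IsFractionRing.injective R K')
  have hκO : ∀ o, κ (algebraMap O R o) = algebraMap O K o := fun o => by
    refine ε.injective ((RingEquiv.apply_symm_apply ε _).trans ?_)
    exact ((IsScalarTower.algebraMap_apply O R K' o).symm.trans (IsScalarTower.algebraMap_apply O K K' o))
  letI : Algebra R K := κ.toAlgebra
  haveI : IsScalarTower O R K := IsScalarTower.of_algebraMap_eq fun o => (hκO o).symm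
  haveI : IsLocalization (Algebra.algebraMapSubmonoid R (nonZeroDivisors O)) K := by
    refine ⟨⟨?_, fun z => ?_, fun {x y} hxy => ⟨1, congrArg _ (hκ hxy)⟩⟩⟩
    · rintro ⟨_, o, ho, rfl⟩
      show IsUnit (κ (algebraMap O R o))
      rw [hκO]
      exact isUnit_iff_ne_zero.2 (IsFractionRing.to_map_ne_zero_of_mem_nonZeroDivisors ho)
    · obtain ⟨a, b, hb, rfl⟩ := IsFractionRing.div_surjective O z
      refine ⟨(algebraMap O R a, ⟨algebraMap O R b, b, hb, rfl⟩), ?_⟩
      show algebraMap O K a / algebraMap O K b * κ (algebraMap O R b) = κ (algebraMap O R a)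
      rw [hκO, hκO, div_mul_cancel₀ _ (IsFractionRing.to_map_ne_zero_of_mem_nonZeroDivisors hb)]
  haveI : Algebra.IsPushout O R K K := Algebra.isPushout_of_isLocalization (nonZeroDivisors O) K R K
  have h := isPullback_SpecMap_of_isPushout _ _ _ _ (CommRingCat.isPushout_of_isPushout O R K K)
  rwa [Algebra.algebraMap_self, show CommRingCat.ofHom (RingHom.id K) = 𝟙 _ from rfl, Spec.map_id] at h

end Groth.Agent.BcMapQ6
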